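import Mathlib

/-!
# A group with two classes of involutions whose centralizers have orders 12 and 8

By the Thompson order formula such a group has order 120; it is the symmetric group of degree five.
-/

set_option autoImplicit false
set_option linter.unusedSectionVars false

namespace Cfsg.Agent.Lib.J4Seven4

open Subgroup

variable {L : Type*} [Group L]

/-- The hypotheses. -/
structure FiveHyp (z : L) (W : Subgroup L) : Prop where
  zz : z * z = 1
  z1 : z ≠ 1
  cz : Nat.card ↥(centralizer ({z} : Set L)) = 6 ∨ Nat.card ↥(centralizer ({z} : Set L)) = 12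
  cardW : Nat.card ↥W = 4
  sqW : ∀ u ∈ W, u * u = 1
  cw : ∀ u ∈ W, u ≠ 1 → Nat.card ↥(centralizer ({u} : Set L)) = 8
  nconj : ∀ u ∈ W, ¬ IsConj z u
  rot : ∃ d : L, d ^ 3 = 1 ∧ (∀ u ∈ W, d * u * d⁻¹ ∈ W) ∧ ∀ u ∈ W, d * u * d⁻¹ = u → u = 1
  flip : ∃ t : L, (∀ u ∈ W, t * u * t⁻¹ ∈ W) ∧ (∀ u ∈ W, t * (t * u * t⁻¹) * t⁻¹ = u) ∧
    ∃ u ∈ W, t * u * t⁻¹ ≠ u

theorem mem_iff_commute {x y : L} : x ∈ centralizer ({y} : Set L) ↔ Commute x y :=
  mem_centralizer_singleton_iff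

theorem isConj_conj (g x : L) : IsConj x (g * x * g⁻¹) := isConj_iff.2 ⟨g, rfl⟩

/-- Two elements of order two in one cyclic group are equal. -/
theorem unique_two [Finite L] {c x y : L} (hx : ∃ n : ℕ, c ^ n = x) (hy : ∃ n : ℕ, c ^ n = y)
    (xx : x * x = 1) (yy : y * y = 1) (x1 : x ≠ 1) (y1 : y ≠ 1) : x = y := by
  obtain ⟨n, rfl⟩ := hx
  obtain ⟨m, rfl⟩ := hy
  rw [← pow_add, ← orderOf_dvd_iff_pow_eq_one] at xx yy
  rw [ne_eq, ← orderOf_dvd_iff_pow_eq_one] at x1 y1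
  rw [pow_eq_pow_iff_modEq]
  obtain ⟨a, ha⟩ := xx
  obtain ⟨b, hb⟩ := yy
  have hpos := orderOf_pos c
  generalize orderOf c = o at *
  have hao : a % 2 = 1 := by
    rcases Nat.even_or_odd a with ⟨k, rfl⟩ | h
    · exfalso
      exact x1 ⟨k, by nlinarith⟩
    · exact Nat.odd_iff.1 h
  have hbo : b % 2 = 1 := by
    rcases Nat.even_or_odd b with ⟨k, rfl⟩ | h
    · exfalso
      exact y1 ⟨k, by nlinarith⟩
    · exact Nat.odd_iff.1 h
  obtain ⟨i, hi⟩ : ∃ i, a = 2 * i + 1 := ⟨a / 2, by omega⟩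
  obtain ⟨j, hj⟩ : ∃ j, b = 2 * j + 1 := ⟨b / 2, by omega⟩
  subst hi hj
  obtain ⟨h, rfl⟩ : ∃ h, o = 2 * h := by
    refine ⟨o / 2, ?_⟩
    rcases Nat.even_or_odd o with ⟨k, rfl⟩ | ⟨k, rfl⟩
    · omega
    · exfalso
      have := congrArg (· % 2) ha
      simp [Nat.add_mod, Nat.mul_mod] at this
      omega
  have en : n = h + i * (2 * h) := by nlinarith
  have em : m = h + j * (2 * h) := by nlinarith
  rw [en, em]
  simp [Nat.ModEq]

/-- Two involutions that are not conjugate have a product of even order; its half power commutes with both. -/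
theorem exists_rho [Finite L] {a b : L} (aa : a * a = 1) (bb : b * b = 1) (hab : ¬ IsConj a b) :
    ∃ x, (∃ n : ℕ, (a * b) ^ n = x) ∧ x * x = 1 ∧ x ≠ 1 ∧ Commute a x ∧ Commute b x := by
  have hinv : a * (a * b) * a⁻¹ = (a * b)⁻¹ := by
    rw [mul_inv_rev, inv_eq_of_mul_eq_one_right aa, inv_eq_of_mul_eq_one_right bb, ← mul_assoc, aa, one_mul]
  have hpow : ∀ k : ℕ, a * (a * b) ^ k * a⁻¹ = ((a * b) ^ k)⁻¹ := fun k => by
    rw [← conj_pow, hinv, inv_pow]
  obtain ⟨o, ho⟩ : ∃ o, orderOf (a * b) = o := ⟨_, rfl⟩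
  have hpos : 0 < o := ho ▸ orderOf_pos _
  rcases Nat.even_or_odd o with ⟨h, hh⟩ | ⟨k, hk⟩
  · have hxx : (a * b) ^ h * (a * b) ^ h = 1 := by rw [← pow_add, ← hh, ← ho, pow_orderOf_eq_one]
    have ha : Commute a ((a * b) ^ h) := by
      have h1 := hpow h
      rw [inv_eq_of_mul_eq_one_right hxx] at h1
      exact mul_inv_eq_iff_eq_mul.1 h1
    refine ⟨_, ⟨h, rfl⟩, hxx, fun e => ?_, ha, ?_⟩
    · have := Nat.le_of_dvd (by omega) (ho ▸ orderOf_dvd_of_pow_eq_one e)
      omega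
    · have hb : Commute (a * (a * b)) ((a * b) ^ h) := ha.mul_left (Commute.self_pow _ _)
      rwa [← mul_assoc, aa, one_mul] at hb
  · exfalso
    refine hab (isConj_iff.2 ⟨(a * b) ^ k, ?_⟩)
    have h1 : a * ((a * b) ^ k)⁻¹ = (a * b) ^ k * a := by
      rw [← hpow k]
      calc a * (a * (a * b) ^ k * a⁻¹) = (a * a) * (a * b) ^ k * a⁻¹ := by group
        _ = _ := by rw [aa, one_mul, inv_eq_of_mul_eq_one_right aa]
    rw [mul_assoc, h1, ← mul_assoc, ← pow_add]
    have h2 : (a * b) ^ (k + k) * (a * b) = 1 := by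
      rw [← pow_succ, show k + k + 1 = o by omega, ← ho, pow_orderOf_eq_one]
    rw [eq_inv_of_mul_eq_one_left h2, mul_inv_rev, mul_assoc, inv_mul_cancel, mul_one,
      inv_eq_of_mul_eq_one_right bb]

open scoped Classical in
theorem card_class_mul [Fintype L] (x : L) :
    (Finset.univ.filter fun y => IsConj x y).card * Nat.card ↥(centralizer ({x} : Set L)) = Nat.card L := by
  rw [Nat.card_eq_fintype_card (α := L), ← Finset.card_univ]
  rw [Finset.card_eq_sum_card_fiberwise (f := fun g : L => g * x * g⁻¹) (s := Finset.univ)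
    (t := Finset.univ.filter fun y => IsConj x y) fun g _ => by simp [isConj_conj]]
  rw [← smul_eq_mul, ← Finset.sum_const]
  refine Finset.sum_congr rfl fun y hy => ?_
  obtain ⟨g, rfl⟩ := isConj_iff.1 (Finset.mem_filter.1 hy).2
  rw [Nat.card_eq_fintype_card, ← Finset.card_univ]
  refine Finset.card_bij' (fun (c : ↥(centralizer ({x} : Set L))) _ => g * (c : L))
    (fun h hh => ⟨g⁻¹ * h, mem_iff_commute.2 ?_⟩) ?_ ?_ ?_ ?_
  · have e : h * x * h⁻¹ = g * x * g⁻¹ := (Finset.mem_filter.1 hh).2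
    show g⁻¹ * h * x = x * (g⁻¹ * h)
    calc g⁻¹ * h * x = g⁻¹ * (h * x * h⁻¹) * h := by group
      _ = g⁻¹ * (g * x * g⁻¹) * h := by rw [e]
      _ = x * (g⁻¹ * h) := by group
  · intro c _
    refine Finset.mem_filter.2 ⟨Finset.mem_univ _, ?_⟩
    have e : (c : L) * x = x * c := mem_iff_commute.1 c.2
    calc g * c * x * (g * c)⁻¹ = g * ((c : L) * x) * (c : L)⁻¹ * g⁻¹ := by group
      _ = g * x * g⁻¹ := by rw [e]; group
  · intro h _; exact Finset.mem_univ _
  · intro c _; exact Subtype.ext (by group)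
  · intro h _; group

namespace FiveHyp

variable {z : L} {W : Subgroup L} (H : FiveHyp z W)
include H

theorem commW {u v : L} (hu : u ∈ W) (hv : v ∈ W) : u * v = v * u := by
  have hi : ∀ {x : L}, x ∈ W → x⁻¹ = x := fun hx => inv_eq_of_mul_eq_one_right (H.sqW _ hx)
  rw [← hi (mul_mem hu hv), mul_inv_rev, hi hu, hi hv]

/-- The three involutions of `W`. -/
theorem mem_four {w v : L} (hw : w ∈ W) (hv : v ∈ W) (w1 : w ≠ 1) (v1 : v ≠ 1) (hne : v ≠ w) {u : L}
    (hu : u ∈ W) : u = 1 ∨ u = w ∨ u = v ∨ u = w * v := by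
  classical
  have : Finite ↥W := Nat.finite_of_card_ne_zero (by rw [H.cardW]; norm_num)
  by_contra hno
  push Not at hno
  obtain ⟨h1, h2, h3, h4⟩ := hno
  have hwv : w * v ≠ 1 := fun e => hne (by
    rw [← inv_eq_of_mul_eq_one_right e, inv_eq_of_mul_eq_one_right (H.sqW w hw)])
  have e1 : w * v ≠ w := fun e => v1 (mul_eq_left.1 e)
  have e2 : w * v ≠ v := fun e => w1 (mul_eq_right.1 e)
  have hsub : ({1, w, v, w * v, u} : Finset L).card ≤ Nat.card ↥W := by
    show _ ≤ Nat.card (W : Set L)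
    rw [Nat.card_coe_set_eq, ← Set.ncard_coe_finset]
    refine Set.ncard_le_ncard ?_ (Set.toFinite (W : Set L))
    intro x hx
    simp at hx
    rcases hx with rfl | rfl | rfl | rfl | rfl
    exacts [one_mem _, hw, hv, mul_mem hw hv, hu]
  rw [H.cardW, Finset.card_insert_of_notMem, Finset.card_insert_of_notMem, Finset.card_insert_of_notMem,
    Finset.card_insert_of_notMem, Finset.card_singleton] at hsub
  · omega
  · simp [h4.symm]
  · simp [e2.symm, h3.symm]
  · simp [hne.symm, e1.symm, h2.symm]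
  · simp [w1.symm, v1.symm, hwv.symm, h1.symm]

theorem fixed_of_sq {t : L} (ht : ∀ u ∈ W, t * u * t⁻¹ ∈ W) (ht2 : ∀ u ∈ W, t * (t * u * t⁻¹) * t⁻¹ = u)
    {u : L} (hu : u ∈ W) (hne : t * u * t⁻¹ ≠ u) :
    u * (t * u * t⁻¹) ≠ 1 ∧ t * (u * (t * u * t⁻¹)) * t⁻¹ = u * (t * u * t⁻¹) := by
  refine ⟨fun e => hne ?_, ?_⟩
  · rw [← inv_eq_of_mul_eq_one_right e, inv_eq_of_mul_eq_one_right (H.sqW u hu)]
  · calc t * (u * (t * u * t⁻¹)) * t⁻¹ = (t * u * t⁻¹) * (t * (t * u * t⁻¹) * t⁻¹) := by group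
      _ = _ := by rw [ht2 u hu]; exact H.commW (ht u hu) hu

theorem cycle_all {w u : L} (hw : w ∈ W) (w1 : w ≠ 1) (hu : u ∈ W) (u1 : u ≠ 1) : IsConj w u := by
  obtain ⟨d, hd3, hdW, hdf⟩ := H.rot
  have h1 : d * w * d⁻¹ ≠ 1 := fun e => w1 (conj_eq_one_iff.1 e)
  have h2 : d * w * d⁻¹ ≠ w := fun e => w1 (hdf w hw e)
  rcases H.mem_four hw (hdW w hw) w1 h1 h2 hu with e | e | e | e
  · exact absurd e u1
  · exact e ▸ IsConj.refl _
  · exact e ▸ isConj_conj d w
  · have h3 : d * (d * w * d⁻¹) * d⁻¹ ≠ d * w * d⁻¹ := fun e' => h1 (hdf _ (hdW w hw) e')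
    have h4 : d * (d * w * d⁻¹) * d⁻¹ ≠ 1 := fun e' => h1 (conj_eq_one_iff.1 e')
    rcases H.mem_four hw (hdW w hw) w1 h1 h2 (hdW _ (hdW w hw)) with e' | e' | e' | e'
    · exact absurd e' h4
    · exfalso
      refine h2 ?_
      calc d * w * d⁻¹ = d * (d * (d * w * d⁻¹) * d⁻¹) * d⁻¹ := by rw [e']
        _ = d ^ 3 * w * (d ^ 3)⁻¹ := by simp [pow_succ, mul_assoc]
        _ = w := by simp [hd3]
    · exact absurd e' h3
    · rw [e, ← e']
      exact (isConj_conj d w).trans (isConj_conj d _)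

/-- The normal form inside `W`, and the fusion of the involutions. -/
structure Frame2 (z : L) (W : Subgroup L) (z₀ w v : L) : Prop where
  hz₀ : IsConj z z₀
  hw : w ∈ W
  hv : v ∈ W
  w1 : w ≠ 1
  v1 : v ≠ 1
  vw : v ≠ w
  zw : Commute z₀ w
  zv : z₀ * v * z₀⁻¹ = w * v
  centW : ∀ x, (∀ u ∈ W, Commute x u) → x ∈ W
  memT : ∀ x, Commute x w → x ∈ W ∨ z₀⁻¹ * x ∈ W
  all : ∀ x : L, x * x = 1 → x ≠ 1 → IsConj z₀ x ∨ IsConj w x

theorem exists_frame [Finite L] : ∃ z₀ w v, Frame2 z W z₀ w v := by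
  classical
  obtain ⟨t, htW, ht2, u₀, hu₀, hne⟩ := H.flip
  obtain ⟨w, hwdef⟩ : ∃ w, w = u₀ * (t * u₀ * t⁻¹) := ⟨_, rfl⟩
  have hwW : w ∈ W := hwdef ▸ mul_mem hu₀ (htW u₀ hu₀)
  obtain ⟨w1, htw⟩ := H.fixed_of_sq htW ht2 hu₀ hne
  rw [← hwdef] at w1 htw
  let T := centralizer ({w} : Set L)
  have hT : Nat.card ↥T = 8 := H.cw w hwW w1
  have htT : t ∈ T := mem_iff_commute.2 (mul_inv_eq_iff_eq_mul.1 htw)
  have hWT : W ≤ T := fun x hx => mem_iff_commute.2 (H.commW hx hwW)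
  let C := centralizer (W : Set L)
  have hCT : C ≤ T := fun x hx => mem_iff_commute.2 (mem_centralizer_iff.1 hx w hwW).symm
  have hWC : W ≤ C := fun x hx => mem_centralizer_iff.2 fun y hy => H.commW hy hx
  have hC : Nat.card ↥C = 4 := by
    have hd : Nat.card ↥C ∣ 2 ^ 3 := (hT.trans (by norm_num : (8 : ℕ) = 2 ^ 3)) ▸ card_dvd_of_le hCT
    have h4 : 4 ≤ Nat.card ↥C := H.cardW ▸ card_le_of_le hWC
    have hne8 : Nat.card ↥C ≠ 8 := fun h => by
      have he : C = T := Subgroup.eq_of_le_of_card_ge hCT (by omega)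
      exact hne (by rw [← mem_centralizer_iff.1 (he ▸ htT : t ∈ C) u₀ hu₀, mul_inv_cancel_right])
    obtain ⟨i, hi, he⟩ := (Nat.dvd_prime_pow Nat.prime_two).1 hd
    rw [he] at h4 hne8 ⊢
    interval_cases i <;> simp_all
  have hCW : W = C := Subgroup.eq_of_le_of_card_ge hWC (by rw [hC, H.cardW])
  have centW : ∀ x, (∀ u ∈ W, Commute x u) → x ∈ W := fun x hx =>
    hCW.ge (mem_centralizer_iff.2 fun y hy => (hx y hy).eq.symm)
  have : Fact (Nat.Prime 2) := ⟨Nat.prime_two⟩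
  obtain ⟨S, hTS⟩ := (IsPGroup.of_card (n := 3) (hT.trans (by norm_num)) : IsPGroup 2 ↥T).exists_le_sylow
  have hST : (S : Subgroup L) ≤ T := by
    have : Nontrivial ↥(S : Subgroup L) := Finite.one_lt_card_iff_nontrivial.1 (by
      have := Subgroup.card_le_of_le hTS; omega)
    have hcn := S.isPGroup'.center_nontrivial
    have hZ : IsPGroup 2 ↥(center ↥(S : Subgroup L)) := S.isPGroup'.to_subgroup _
    obtain ⟨k, hk, hk'⟩ := hZ.nontrivial_iff_card.1 hcn
    obtain ⟨ζ, hζ⟩ := exists_prime_orderOf_dvd_card' (G := ↥(center ↥(S : Subgroup L))) 2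
      (hk' ▸ dvd_pow_self 2 hk.ne')
    have hc : ∀ x ∈ (S : Subgroup L), Commute x ((ζ : ↥(S : Subgroup L)) : L) := fun x hx =>
      congrArg Subtype.val (mem_center_iff.1 ζ.2 ⟨x, hx⟩)
    have hζW : ((ζ : ↥(S : Subgroup L)) : L) ∈ W := centW _ fun u hu => (hc u (hTS (hWT hu))).symm
    have hζ1 : ((ζ : ↥(S : Subgroup L)) : L) ≠ 1 := fun e => by
      have : ζ = 1 := Subtype.ext (Subtype.ext e)
      rw [this, orderOf_one] at hζ
      omega
    have hle : (S : Subgroup L) ≤ centralizer ({((ζ : ↥(S : Subgroup L)) : L)} : Set L) :=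
      fun x hx => mem_iff_commute.2 (hc x hx)
    have := Subgroup.card_le_of_le hle
    rw [H.cw _ hζW hζ1] at this
    exact (Subgroup.eq_of_le_of_card_ge hTS (hT ▸ this)).ge
  have intoT : ∀ x : L, x * x = 1 → ∃ g, g * x * g⁻¹ ∈ T := by
    intro x hx
    have hp : IsPGroup 2 ↥(zpowers x) := by
      have hd : orderOf x ∣ 2 ^ 1 := orderOf_dvd_of_pow_eq_one (by rw [pow_one, pow_two, hx])
      obtain ⟨i, -, hi⟩ := (Nat.dvd_prime_pow Nat.prime_two).1 hd
      exact IsPGroup.of_card (n := i) (by rw [Nat.card_zpowers, hi])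
    obtain ⟨R, hR⟩ := hp.exists_le_sylow
    obtain ⟨g, hg⟩ := MulAction.exists_smul_eq L R S
    refine ⟨g, hST ?_⟩
    rw [← hg, Sylow.coe_subgroup_smul]
    exact ⟨x, hR (mem_zpowers x), by simp⟩
  obtain ⟨g, hg⟩ := intoT z H.zz
  obtain ⟨z₀, hz₀⟩ : ∃ z₀, z₀ = g * z * g⁻¹ := ⟨_, rfl⟩
  rw [← hz₀] at hg
  have hconj : IsConj z z₀ := hz₀ ▸ isConj_conj g z
  have zz₀ : z₀ * z₀ = 1 := by
    rw [hz₀, show g * z * g⁻¹ * (g * z * g⁻¹) = g * (z * z) * g⁻¹ by group, H.zz]; group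
  have hzi : z₀⁻¹ = z₀ := inv_eq_of_mul_eq_one_right zz₀
  have zW : z₀ ∉ W := fun h => H.nconj z₀ h hconj
  have zw : Commute z₀ w := mem_iff_commute.1 hg
  obtain ⟨v, hv, hzv⟩ : ∃ v ∈ W, ¬ Commute z₀ v := by
    by_contra h
    push Not at h
    exact zW (centW z₀ h)
  have v1 : v ≠ 1 := fun e => hzv (e ▸ Commute.one_right z₀)
  have vw : v ≠ w := fun e => hzv (e ▸ zw)
  have hWidx : (W.subgroupOf T).index = 2 := by
    have h := (W.subgroupOf T).card_mul_index
    rw [Nat.card_congr (Subgroup.subgroupOfEquivOfLe hWT).toEquiv, H.cardW, hT] at h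
    omega
  have memT : ∀ x, Commute x w → x ∈ W ∨ z₀⁻¹ * x ∈ W := by
    intro x hx
    by_cases hxW : x ∈ W
    · exact Or.inl hxW
    refine Or.inr ?_
    have := (Subgroup.mul_mem_iff_of_index_two hWidx (a := (⟨z₀, hg⟩ : ↥T)⁻¹)
      (b := ⟨x, mem_iff_commute.2 hx⟩)).2
    refine this (iff_of_false ?_ hxW)
    show ¬ z₀⁻¹ ∈ W
    rwa [inv_mem_iff]
  have zvW : z₀ * v * z₀⁻¹ ∈ W := by
    have := Subgroup.normal_of_index_eq_two hWidx
    exact this.conj_mem ⟨v, hWT hv⟩ hv ⟨z₀, hg⟩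
  have zv : z₀ * v * z₀⁻¹ = w * v := by
    rcases H.mem_four hwW hv w1 v1 vw zvW with e | e | e | e
    · exact absurd (conj_eq_one_iff.1 e) v1
    · exfalso
      refine vw ?_
      have := congrArg (fun y => z₀⁻¹ * y * z₀) e
      simp only [mul_assoc, inv_mul_cancel_left, inv_mul_cancel, mul_one] at this
      rw [this, ← zw.eq, inv_mul_cancel_left]
    · exact absurd (mul_inv_eq_iff_eq_mul.1 e) hzv
    · exact e
  refine ⟨z₀, w, v, hconj, hwW, hv, w1, v1, vw, zw, zv, centW, memT, fun x xx x1 => ?_⟩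
  obtain ⟨k, hk⟩ := intoT x xx
  have hxx : IsConj x (k * x * k⁻¹) := isConj_conj k x
  suffices h : IsConj z₀ (k * x * k⁻¹) ∨ IsConj w (k * x * k⁻¹) from
    h.imp (fun h => h.trans hxx.symm) (fun h => h.trans hxx.symm)
  have yy : k * x * k⁻¹ * (k * x * k⁻¹) = 1 := by
    rw [show k * x * k⁻¹ * (k * x * k⁻¹) = k * (x * x) * k⁻¹ by group, xx]; group
  have y1 : k * x * k⁻¹ ≠ 1 := fun e => x1 (conj_eq_one_iff.1 e)
  generalize k * x * k⁻¹ = y at hk yy y1
  rcases memT y (mem_iff_commute.1 hk) with hy | hy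
  · exact Or.inr (H.cycle_all hwW w1 hy y1)
  · obtain ⟨u, hu, rfl⟩ : ∃ u ∈ W, y = z₀ * u := ⟨_, hy, by group⟩
    have hzu : z₀ * u * z₀⁻¹ * u = 1 := by rw [hzi, ← yy]; group
    rcases H.mem_four hwW hv w1 v1 vw hu with rfl | rfl | rfl | rfl
    · exact Or.inl (by rw [mul_one])
    · refine Or.inl (isConj_iff.2 ⟨v, ?_⟩)
      have e : v * z₀ = z₀ * (u * v) := by
        rw [← zv, hzi, show z₀ * (z₀ * v * z₀) = z₀ * z₀ * (v * z₀) by group, zz₀, one_mul]
      rw [e, inv_eq_of_mul_eq_one_right (H.sqW v hv), mul_assoc, mul_assoc, H.sqW v hv, mul_one]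
    · exfalso
      rw [zv, mul_assoc, H.sqW _ hv, mul_one] at hzu
      exact w1 hzu
    · exfalso
      rw [show z₀ * (w * v) * z₀⁻¹ = (z₀ * w * z₀⁻¹) * (z₀ * v * z₀⁻¹) by group, zv,
        mul_inv_eq_iff_eq_mul.2 zw.eq, ← mul_assoc w w, H.sqW w hwW, one_mul, H.commW hwW hv, ← mul_assoc,
        H.sqW v hv, one_mul] at hzu
      exact w1 hzu

variable {z₀ w v : L} (F : Frame2 z W z₀ w v)
include F

theorem zz₀ : z₀ * z₀ = 1 := by
  obtain ⟨g, rfl⟩ := isConj_iff.1 F.hz₀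
  rw [show g * z * g⁻¹ * (g * z * g⁻¹) = g * (z * z) * g⁻¹ by group, H.zz]; group

theorem not_isConj_w {u : L} (hu : IsConj w u) : ¬ IsConj z₀ u := fun h =>
  H.nconj w F.hw ((F.hz₀.trans h).trans hu.symm)

theorem zW : z₀ ∉ W := fun h => H.nconj z₀ h F.hz₀

/-- The part of the centralizer of `z₀` centralizing `w`. -/
theorem mem_U {x : L} (hx : Commute x z₀) (hxw : Commute x w) : x = 1 ∨ x = w ∨ x = z₀ ∨ x = z₀ * w := by
  have key : ∀ u ∈ W, Commute u z₀ → u = 1 ∨ u = w := by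
    intro u hu hc
    rcases H.mem_four F.hw F.hv F.w1 F.v1 F.vw hu with e | e | e | e
    · exact Or.inl e
    · exact Or.inr e
    · exfalso
      subst e
      have := F.zv
      rw [mul_inv_eq_iff_eq_mul.2 hc.eq.symm, right_eq_mul] at this
      exact F.w1 this
    · exfalso
      subst e
      have h' : Commute (w⁻¹ * (w * v)) z₀ := (F.zw.symm.inv_left).mul_left hc
      rw [inv_mul_cancel_left] at h'
      have := F.zv
      rw [mul_inv_eq_iff_eq_mul.2 h'.eq.symm, right_eq_mul] at this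
      exact F.w1 this
  rcases F.memT x hxw with hxW | hxW
  · rcases key x hxW hx with e | e <;> simp [e]
  · have hc : Commute (z₀⁻¹ * x) z₀ := ((Commute.refl z₀).inv_left).mul_left hx
    rcases key _ hxW hc with e | e
    · right; right; left; exact (inv_mul_eq_one.1 e).symm
    · right; right; right; rwa [inv_mul_eq_iff_eq_mul] at e

theorem exists_three [Finite L] : Nat.card ↥(centralizer ({z₀} : Set L)) = 12 ∧
    ∃ p : L, p ^ 3 = 1 ∧ p ≠ 1 ∧ Commute p z₀ ∧ w * p * w⁻¹ = p⁻¹ ∧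
      ∀ x : L, Commute x z₀ → ∃ u q, (u = 1 ∨ u = w ∨ u = z₀ ∨ u = z₀ * w) ∧ q ∈ zpowers p ∧ x = u * q := by
  classical
  obtain ⟨g, hg⟩ := isConj_iff.1 F.hz₀
  set C := centralizer ({z₀} : Set L) with hCdef
  have hCz : Nat.card ↥C = Nat.card ↥(centralizer ({z} : Set L)) :=
    (Nat.card_congr ((MulAut.conj g).toEquiv.subtypeEquiv fun x => by
      show x ∈ centralizer ({z} : Set L) ↔ g * x * g⁻¹ ∈ C
      rw [hCdef, mem_iff_commute, mem_iff_commute, ← hg]
      show x * z = z * x ↔ g * x * g⁻¹ * (g * z * g⁻¹) = g * z * g⁻¹ * (g * x * g⁻¹)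
      rw [show g * x * g⁻¹ * (g * z * g⁻¹) = g * (x * z) * g⁻¹ by group,
        show g * z * g⁻¹ * (g * x * g⁻¹) = g * (z * x) * g⁻¹ by group, mul_left_inj, mul_right_inj])).symm
  let U := C ⊓ centralizer ({w} : Set L)
  have hU : Nat.card ↥U = 4 := by
    have hle : U ≤ centralizer ({w} : Set L) := inf_le_right
    have hd := card_dvd_of_le hle
    rw [H.cw w F.hw F.w1] at hd
    have h4 : Nat.card ↥U ≤ 4 := by
      have hsub : (U : Set L) ⊆ (({1, w, z₀, z₀ * w} : Finset L) : Set L) := fun x hx => by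
        rcases H.mem_U F (mem_iff_commute.1 hx.1) (mem_iff_commute.1 hx.2) with e | e | e | e <;> simp [e]
      have := Set.ncard_le_ncard hsub (Finset.finite_toSet _)
      rw [Set.ncard_coe_finset, ← Nat.card_coe_set_eq] at this
      exact le_trans this Finset.card_le_four
    have h3 : 3 ≤ Nat.card ↥U := by
      have hsub : (({1, w, z₀} : Finset L) : Set L) ⊆ (U : Set L) := fun x hx => by
        simp at hx
        rcases hx with rfl | rfl | rfl
        · exact one_mem U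
        · exact ⟨mem_iff_commute.2 F.zw.symm, mem_iff_commute.2 (Commute.refl _)⟩
        · exact ⟨mem_iff_commute.2 (Commute.refl _), mem_iff_commute.2 F.zw⟩
      have := Set.ncard_le_ncard hsub (Set.toFinite _)
      rw [Set.ncard_coe_finset, ← Nat.card_coe_set_eq, Finset.card_eq_three.2
        ⟨1, w, z₀, F.w1.symm, fun e => H.zW F (e ▸ one_mem W), fun e => H.zW F (e ▸ F.hw), rfl⟩] at this
      exact this
    have : Nat.card ↥U = 3 ∨ Nat.card ↥U = 4 := by omega
    rcases this with e | e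
    · rw [e] at hd; norm_num at hd
    · exact e
  have hUC : U ≤ C := inf_le_left
  have hC : Nat.card ↥C = 12 := by
    have hd := card_dvd_of_le hUC
    rw [hU] at hd
    rcases H.cz with e | e <;> rw [hCz, e] at hd ⊢
    norm_num at hd
  have : Fact (Nat.Prime 3) := ⟨Nat.prime_three⟩
  obtain ⟨q0, hq0⟩ := exists_prime_orderOf_dvd_card' (G := ↥C) 3 (by rw [hC]; norm_num)
  obtain ⟨p, hp⟩ : ∃ p : L, p = q0 := ⟨_, rfl⟩
  have hp3 : orderOf p = 3 := by rw [hp, Subgroup.orderOf_coe, hq0]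
  have hp1 : p ≠ 1 := fun e => by rw [e, orderOf_one] at hp3; omega
  have hpc : Commute p z₀ := hp ▸ mem_iff_commute.1 q0.2
  have hpp : zpowers p ≤ C := zpowers_le.2 (mem_iff_commute.2 hpc)
  have hdisj : Disjoint U (zpowers p) := by
    rw [disjoint_iff]
    refine inf_eq_bot_of_coprime ?_
    rw [hU, Nat.card_zpowers, hp3]; norm_num
  -- the product map is onto
  have hform : ∀ x : L, Commute x z₀ → ∃ u q, (u = 1 ∨ u = w ∨ u = z₀ ∨ u = z₀ * w) ∧ q ∈ zpowers p ∧
      x = u * q := by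
    intro x hx
    let f : ↥U × ↥(zpowers p) → ↥C := fun r => ⟨(r.1 : L) * r.2, mul_mem (hUC r.1.2) (hpp r.2.2)⟩
    have hf : Function.Bijective f := (Nat.bijective_iff_injective_and_card f).2
      ⟨fun a b e => mul_injective_of_disjoint hdisj (congrArg Subtype.val e),
        by rw [Nat.card_prod, hU, Nat.card_zpowers, hp3, hC]⟩
    obtain ⟨r, hr⟩ := hf.2 ⟨x, mem_iff_commute.2 hx⟩
    exact ⟨r.1, r.2, H.mem_U F (mem_iff_commute.1 r.1.2.1) (mem_iff_commute.1 r.1.2.2), r.2.2,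
      (congrArg Subtype.val hr).symm⟩
  have hp30 : p ^ 3 = 1 := hp3 ▸ pow_orderOf_eq_one p
  have hwC : Commute (w * p * w⁻¹) z₀ := (F.zw.symm.mul_left hpc).mul_left F.zw.symm.inv_left
  obtain ⟨u, q, hu, hq, he⟩ := hform _ hwC
  have hq3 : q ^ 3 = 1 := by
    obtain ⟨i, rfl⟩ := mem_zpowers_iff.1 hq
    rw [← zpow_natCast, ← zpow_mul, mul_comm, zpow_mul, zpow_natCast, hp30, one_zpow]
  -- the `U`-part of a cube root of one is trivial
  have hwi : w⁻¹ = w := inv_eq_of_mul_eq_one_right (H.sqW w F.hw)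
  have hu1 : u = 1 := by
    rcases hu with e | e | e | e
    · exact e
    · exfalso
      subst e
      rw [mul_assoc, mul_right_inj, hwi] at he
      have : u ∈ zpowers p := by
        have h2 : u = p⁻¹ * q := by rw [← he, inv_mul_cancel_left]
        rw [h2]
        exact mul_mem (inv_mem (mem_zpowers p)) hq
      have h1 := disjoint_iff.1 hdisj
      exact F.w1 (mem_bot.1 (h1.le ⟨⟨mem_iff_commute.2 F.zw.symm, mem_iff_commute.2 (Commute.refl u)⟩, this⟩))
    · exfalso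
      have h3 := congrArg (· ^ 3) he
      have hqz : Commute z₀ q := by
        obtain ⟨i, rfl⟩ := mem_zpowers_iff.1 hq
        exact hpc.symm.zpow_right i
      simp only [conj_pow, hp30, mul_one, mul_inv_cancel, e, hqz.mul_pow, hq3] at h3
      rw [pow_succ, pow_two, H.zz₀ F, one_mul] at h3
      exact H.zW F (h3 ▸ one_mem W)
    · exfalso
      subst e
      rw [hwi] at he
      have h2 : p * w = w * z₀ * w * q := by
        rw [show w * z₀ * w * q = w * (z₀ * w * q) by group, ← he, ← mul_assoc w, ← mul_assoc w, H.sqW w F.hw,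
          one_mul]
      rw [← F.zw.eq, mul_assoc z₀ w w, H.sqW w F.hw, mul_one] at h2
      have h4 : z₀ * w = p⁻¹ * q := by
        calc z₀ * w = z₀ * (p⁻¹ * (p * w)) := by rw [inv_mul_cancel_left]
          _ = z₀ * p⁻¹ * z₀ * q := by rw [h2]; group
          _ = p⁻¹ * (z₀ * z₀) * q := by rw [← hpc.inv_left.eq, mul_assoc p⁻¹]
          _ = p⁻¹ * q := by rw [H.zz₀ F, mul_one]
      have hm : z₀ * w ∈ zpowers p := h4 ▸ mul_mem (inv_mem (mem_zpowers p)) hq
      have h1 := disjoint_iff.1 hdisj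
      have h5 := mem_bot.1 (h1.le (show z₀ * w ∈ U ⊓ zpowers p from
        ⟨⟨mem_iff_commute.2 ((Commute.refl z₀).mul_left F.zw.symm),
          mem_iff_commute.2 (F.zw.mul_left (Commute.refl w))⟩, hm⟩))
      refine H.zW F ?_
      rw [← inv_eq_of_mul_eq_one_left h5]
      exact inv_mem F.hw
  subst hu1
  rw [one_mul] at he
  refine ⟨hC, p, hp30, hp1, hpc, ?_, hform⟩
  obtain ⟨i, hi⟩ := mem_zpowers_iff.1 (he ▸ hq : w * p * w⁻¹ ∈ zpowers p)
  rw [← zpow_mod_orderOf, hp3] at hi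
  have h0 := Int.emod_nonneg i (by norm_num : ((3 : ℕ) : ℤ) ≠ 0)
  have h3 := Int.emod_lt_of_pos i (by norm_num : (0 : ℤ) < ((3 : ℕ) : ℤ))
  rcases (by push_cast at h0 h3 ⊢; omega : i % ((3 : ℕ) : ℤ) = 0 ∨ i % ((3 : ℕ) : ℤ) = 1 ∨ i % ((3 : ℕ) : ℤ) = 2) with
    e | e | e <;> rw [e] at hi
  · exfalso
    rw [zpow_zero, eq_comm, conj_eq_one_iff] at hi
    exact hp1 hi
  · exfalso
    rw [zpow_one, eq_comm, mul_inv_eq_iff_eq_mul] at hi
    have hd := card_dvd_of_le (zpowers_le.2 (mem_iff_commute.2 (show Commute p w from hi.symm)))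
    rw [Nat.card_zpowers, hp3, H.cw w F.hw F.w1] at hd
    norm_num at hd
  · rw [← hi]
    refine eq_inv_of_mul_eq_one_left ?_
    rw [← zpow_add_one, show (2 : ℤ) + 1 = ((3 : ℕ) : ℤ) by norm_num, zpow_natCast, hp30]

/-- The elements squaring to one that centralize `z₀`. -/
theorem sq_one_cases {p : L} (hp3 : p ^ 3 = 1) (hpc : Commute p z₀) (hwp : w * p * w⁻¹ = p⁻¹)
    (hform : ∀ x : L, Commute x z₀ → ∃ u q, (u = 1 ∨ u = w ∨ u = z₀ ∨ u = z₀ * w) ∧ q ∈ zpowers p ∧ x = u * q)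
    {x : L} (hx : Commute x z₀) (xx : x * x = 1) :
    x = 1 ∨ x = z₀ ∨ (∃ q ∈ zpowers p, x = w * q) ∨ ∃ q ∈ zpowers p, x = z₀ * (w * q) := by
  obtain ⟨u, q, hu, hq, rfl⟩ := hform x hx
  obtain ⟨i, hi⟩ := mem_zpowers_iff.1 hq
  have hq3 : q * q * q = 1 := by
    rw [← hi, ← zpow_add, ← zpow_add, show i + i + i = ((3 : ℕ) : ℤ) * i by push_cast; ring, zpow_mul,
      zpow_natCast, hp3, one_zpow]
  have hqz : Commute z₀ q := hi ▸ hpc.symm.zpow_right i
  rcases hu with e | e | e | e <;> rw [e] at xx ⊢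
  · rw [one_mul] at xx ⊢
    rw [xx, one_mul] at hq3
    exact Or.inl hq3
  · exact Or.inr (Or.inr (Or.inl ⟨q, hq, rfl⟩))
  · rw [hqz.symm.mul_mul_mul_comm, H.zz₀ F, one_mul] at xx
    rw [xx, one_mul] at hq3
    exact Or.inr (Or.inl (by rw [hq3, mul_one]))
  · exact Or.inr (Or.inr (Or.inr ⟨q, hq, mul_assoc _ _ _⟩))

theorem conj_wq {p : L} (hp3 : p ^ 3 = 1) (hpc : Commute p z₀) (hwp : w * p * w⁻¹ = p⁻¹) {q : L}
    (hq : q ∈ zpowers p) :
    w * q * w⁻¹ = q⁻¹ ∧ Commute q z₀ ∧ q * q * q = 1 ∧ q * w * q⁻¹ = w * q ∧ IsConj w (w * q) ∧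
      IsConj z₀ (z₀ * (w * q)) := by
  obtain ⟨i, hi⟩ := mem_zpowers_iff.1 hq
  have h1 : w * q * w⁻¹ = q⁻¹ := by rw [← hi, ← conj_zpow, hwp, inv_zpow]
  have h2 : Commute q z₀ := hi ▸ hpc.zpow_left i
  have h3 : q * q * q = 1 := by
    rw [← hi, ← zpow_add, ← zpow_add, show i + i + i = ((3 : ℕ) : ℤ) * i by push_cast; ring, zpow_mul,
      zpow_natCast, hp3, one_zpow]
  have h4 : q * w * q⁻¹ = w * q := by
    have e : q * w = w * q⁻¹ := by
      have h : w * q = q⁻¹ * w := mul_inv_eq_iff_eq_mul.1 h1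
      calc q * w = q * ((w * q) * q⁻¹) := by group
        _ = w * q⁻¹ := by rw [h]; group
    rw [e, mul_assoc]
    congr 1
    rw [← mul_inv_rev, eq_comm, eq_inv_iff_mul_eq_one, ← mul_assoc, h3]
  refine ⟨h1, h2, h3, h4, h4 ▸ isConj_conj q w, ?_⟩
  have h5 : q * (z₀ * w) * q⁻¹ = z₀ * (w * q) := by
    rw [← h4, ← mul_assoc q z₀ w, h2.eq]; group
  rw [← h5]
  refine (?_ : IsConj z₀ (z₀ * w)).trans (isConj_conj q _)
  refine isConj_iff.2 ⟨v, ?_⟩
  have e : v * z₀ = z₀ * (w * v) := by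
    rw [← F.zv, inv_eq_of_mul_eq_one_right (H.zz₀ F)]
    calc v * z₀ = z₀ * z₀ * (v * z₀) := by rw [H.zz₀ F, one_mul]
      _ = _ := by group
  rw [e, inv_eq_of_mul_eq_one_right (H.sqW v F.hv), mul_assoc, mul_assoc, H.sqW v F.hv, mul_one]

open scoped Classical in
/-- The order formula. -/
theorem card_eq [Finite L] : Nat.card L = 120 := by
  have := Fintype.ofFinite L
  obtain ⟨hC, p, hp3, hp1, hpc, hwp, hform⟩ := H.exists_three F
  have zz := H.zz₀ F
  have hzi : z₀⁻¹ = z₀ := inv_eq_of_mul_eq_one_right zz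
  have ww := H.sqW w F.hw
  set A := Finset.univ.filter fun y => IsConj z₀ y with hA
  set B := Finset.univ.filter fun y => IsConj w y with hB
  have memA : ∀ {y : L}, y ∈ A ↔ IsConj z₀ y := fun {y} => by simp [hA]
  have memB : ∀ {y : L}, y ∈ B ↔ IsConj w y := fun {y} => by simp [hB]
  have hsq : ∀ {x y : L}, x * x = 1 → IsConj x y → y * y = 1 := fun {x y} hx h => by
    obtain ⟨g, rfl⟩ := isConj_iff.1 h
    rw [show g * x * g⁻¹ * (g * x * g⁻¹) = g * (x * x) * g⁻¹ by group, hx]; group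
  have hAB : ∀ a ∈ A, ∀ b ∈ B, ¬ IsConj a b := fun a ha b hb h =>
    H.not_isConj_w F (memB.1 hb) ((memA.1 ha).trans h)
  have hex : ∀ q : L × L, q ∈ A ×ˢ B → ∃ x, (∃ n : ℕ, (q.1 * q.2) ^ n = x) ∧ x * x = 1 ∧ x ≠ 1 ∧
      Commute q.1 x ∧ Commute q.2 x := fun q hq => by
    obtain ⟨ha, hb⟩ := Finset.mem_product.1 hq
    exact exists_rho (hsq zz (memA.1 ha)) (hsq ww (memB.1 hb)) (hAB _ ha _ hb)
  let ρ : L × L → L := fun q => if h : q ∈ A ×ˢ B then (hex q h).choose else 1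
  have hρ : ∀ q, q ∈ A ×ˢ B → (∃ n : ℕ, (q.1 * q.2) ^ n = ρ q) ∧ ρ q * ρ q = 1 ∧ ρ q ≠ 1 ∧
      Commute q.1 (ρ q) ∧ Commute q.2 (ρ q) := fun q hq => by
    simp only [ρ, dif_pos hq]
    exact (hex q hq).choose_spec
  have hρeq : ∀ q x, q ∈ A ×ˢ B → (∃ n : ℕ, (q.1 * q.2) ^ n = x) → x * x = 1 → x ≠ 1 → ρ q = x :=
    fun q x hq h1 h2 h3 => unique_two (hρ q hq).1 h1 (hρ q hq).2.1 h2 (hρ q hq).2.2.1 h3
  let fib : L → ℕ := fun x => ((A ×ˢ B).filter fun q => ρ q = x).card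
  have hfib : ∀ {x y : L}, IsConj x y → fib x ≤ fib y := by
    intro x y h
    obtain ⟨g, rfl⟩ := isConj_iff.1 h
    refine Finset.card_le_card_of_injOn (fun q => (g * q.1 * g⁻¹, g * q.2 * g⁻¹)) ?_ ?_
    · intro q hq
      obtain ⟨hq1, hq2⟩ := Finset.mem_filter.1 hq
      obtain ⟨ha, hb⟩ := Finset.mem_product.1 hq1
      have hmem : (g * q.1 * g⁻¹, g * q.2 * g⁻¹) ∈ A ×ˢ B :=
        Finset.mem_product.2 ⟨memA.2 ((memA.1 ha).trans (isConj_conj g _)), memB.2 ((memB.1 hb).trans (isConj_conj g _))⟩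
      refine Finset.mem_filter.2 ⟨hmem, hρeq _ _ hmem ?_ ?_ ?_⟩
      · obtain ⟨n, hn⟩ := (hρ q hq1).1
        refine ⟨n, ?_⟩
        show (g * q.1 * g⁻¹ * (g * q.2 * g⁻¹)) ^ n = _
        rw [show g * q.1 * g⁻¹ * (g * q.2 * g⁻¹) = g * (q.1 * q.2) * g⁻¹ by group, conj_pow, hn, hq2]
      · exact hsq (hq2 ▸ (hρ q hq1).2.1) (isConj_conj g x)
      · intro e
        exact (hρ q hq1).2.2.1 (hq2.trans (conj_eq_one_iff.1 e))
    · intro a _ b _ e
      simp only [Prod.mk.injEq, mul_left_inj, mul_right_inj] at e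
      exact Prod.ext e.1 e.2
  have hfib' : ∀ {x y : L}, IsConj x y → fib x = fib y := fun h => le_antisymm (hfib h) (hfib h.symm)
  have hdis : Disjoint A B := Finset.disjoint_left.2 fun a ha hb =>
    hAB a ha a hb (IsConj.refl a)
  have htot : A.card * B.card = A.card * fib z₀ + B.card * fib w := by
    rw [← Finset.card_product, Finset.card_eq_sum_card_fiberwise (f := ρ) (t := A ∪ B) fun q hq => by
      obtain ⟨-, h1, h2, -⟩ := hρ q hq
      exact Finset.mem_union.2 ((F.all _ h1 h2).imp memA.2 memB.2),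
      Finset.sum_union hdis]
    congr 1
    · exact Finset.sum_const_nat fun x hx => (hfib' (memA.1 hx)).symm
    · exact Finset.sum_const_nat fun x hx => (hfib' (memB.1 hx)).symm
  have hvB : IsConj w v := H.cycle_all F.hw F.w1 F.hv F.v1
  have hwvB : IsConj w (w * v) := H.cycle_all F.hw F.w1 (mul_mem F.hw F.hv) fun e => F.vw (by
    rw [← inv_eq_of_mul_eq_one_right e, inv_eq_of_mul_eq_one_right ww])
  have hzwA : IsConj z₀ (z₀ * w) := by
    have h := (H.conj_wq F hp3 hpc hwp (one_mem (zpowers p))).2.2.2.2.2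
    rwa [mul_one] at h
  -- the fiber over `z₀`
  let P := (Finset.univ.filter fun q => q ∈ zpowers p)
  have hP : P.card = 3 := by
    rw [← Fintype.card_subtype, ← Nat.card_eq_fintype_card]
    show Nat.card ↥(zpowers p) = 3
    rw [Nat.card_zpowers, orderOf_eq_prime (hp := ⟨Nat.prime_three⟩) hp3 hp1]
  have f9 : fib z₀ = 9 := by
    have : ((A ×ˢ B).filter fun q => ρ q = z₀) = (P.image fun q => z₀ * (w * q)) ×ˢ (P.image fun q => w * q) := by
      ext ⟨a, b⟩
      constructor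
      · intro h
        obtain ⟨h1, h2⟩ := Finset.mem_filter.1 h
        obtain ⟨ha, hb⟩ := Finset.mem_product.1 h1
        obtain ⟨-, -, -, hca, hcb⟩ := hρ _ h1
        rw [h2] at hca hcb
        obtain ⟨qb, hqb, rfl⟩ : ∃ q ∈ zpowers p, b = w * q := by
          rcases H.sq_one_cases F hp3 hpc hwp hform hcb (hsq ww (memB.1 hb)) with e | e | e | ⟨q, hq, e⟩
          · exact absurd (isConj_one_right.1 (e ▸ memB.1 hb).symm) F.w1
          · exact absurd (e ▸ IsConj.refl z₀) (H.not_isConj_w F (memB.1 hb))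
          · exact e
          · exact absurd (e ▸ (H.conj_wq F hp3 hpc hwp hq).2.2.2.2.2) (H.not_isConj_w F (memB.1 hb))
        refine Finset.mem_product.2 ⟨?_, Finset.mem_image.2 ⟨qb, by simp [P, hqb], rfl⟩⟩
        rcases H.sq_one_cases F hp3 hpc hwp hform hca (hsq zz (memA.1 ha)) with e | e | ⟨q, hq, e⟩ | ⟨q, hq, e⟩
        · exact absurd (isConj_one_right.1 (e ▸ memA.1 ha).symm) (fun e => H.zW F (by rw [e]; exact one_mem W))
        · exfalso
          obtain ⟨-, hqz, -, -, hcw, hcz⟩ := H.conj_wq F hp3 hpc hwp hqb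
          replace e : a = z₀ := e
          have hr : ρ (a, w * qb) = a * (w * qb) :=
            hρeq _ _ h1 ⟨1, pow_one _⟩ (hsq zz (e ▸ hcz)) (fun e' => H.not_isConj_w F hcw (by
              rw [← inv_eq_of_mul_eq_one_right e', e, hzi]))
          rw [h2, e, left_eq_mul] at hr
          exact F.w1 (isConj_one_right.1 (hr ▸ hcw).symm)
        · exact absurd (memA.1 ha) (H.not_isConj_w F (e ▸ (H.conj_wq F hp3 hpc hwp hq).2.2.2.2.1))
        · exact Finset.mem_image.2 ⟨q, by simp [P, hq], e.symm⟩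
      · intro h
        obtain ⟨ha, hb⟩ := Finset.mem_product.1 h
        obtain ⟨q, hq, rfl⟩ := Finset.mem_image.1 ha
        obtain ⟨r, hr, rfl⟩ := Finset.mem_image.1 hb
        simp only [P, Finset.mem_filter, Finset.mem_univ, true_and] at hq hr
        obtain ⟨hwq, hqz, hq3, -, -, hAq⟩ := H.conj_wq F hp3 hpc hwp hq
        obtain ⟨-, hrz, -, -, hBr, -⟩ := H.conj_wq F hp3 hpc hwp hr
        have hm : (z₀ * (w * q), w * r) ∈ A ×ˢ B := Finset.mem_product.2 ⟨memA.2 hAq, memB.2 hBr⟩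
        refine Finset.mem_filter.2 ⟨hm, hρeq _ _ hm ⟨3, ?_⟩ zz fun e => H.zW F (e ▸ one_mem W)⟩
        show (z₀ * (w * q) * (w * r)) ^ 3 = z₀
        have hwi : w⁻¹ = w := inv_eq_of_mul_eq_one_right ww
        rw [hwi] at hwq
        have hmm : q⁻¹ * r ∈ zpowers p := mul_mem (inv_mem hq) hr
        obtain ⟨-, hmz, hm3, -, -, -⟩ := H.conj_wq F hp3 hpc hwp hmm
        rw [show z₀ * (w * q) * (w * r) = z₀ * ((w * q * w) * r) by group, hwq, hmz.symm.mul_pow, pow_succ, pow_two,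
          zz, one_mul, pow_succ, pow_two, hm3, mul_one]
    show Finset.card _ = 9
    rw [this, Finset.card_product, Finset.card_image_of_injective _ fun a b e => mul_left_cancel (mul_left_cancel e),
      Finset.card_image_of_injective _ fun a b e => mul_left_cancel e, hP]
  -- the fiber over `w`
  have f4 : fib w = 4 := by
    have hT : ∀ {x : L}, Commute x w → IsConj z₀ x → x = z₀ ∨ x = z₀ * w := by
      intro x hx hc
      rcases F.memT x hx with h | h
      · exact absurd (F.hz₀.trans hc) (H.nconj x h)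
      · obtain ⟨u, hu, rfl⟩ : ∃ u ∈ W, x = z₀ * u := ⟨_, h, by group⟩
        have e : z₀ * u * z₀⁻¹ * u = 1 := by rw [hzi, ← hsq zz hc]; group
        rcases H.mem_four F.hw F.hv F.w1 F.v1 F.vw hu with rfl | rfl | rfl | rfl
        · exact Or.inl (mul_one _)
        · exact Or.inr rfl
        · exfalso
          rw [F.zv, mul_assoc, H.sqW _ F.hv, mul_one] at e
          exact F.w1 e
        · exfalso
          rw [show z₀ * (w * v) * z₀⁻¹ = (z₀ * w * z₀⁻¹) * (z₀ * v * z₀⁻¹) by group, F.zv,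
            mul_inv_eq_iff_eq_mul.2 F.zw.eq, ← mul_assoc w w, ww, one_mul, H.commW F.hw F.hv, ← mul_assoc,
            H.sqW v F.hv, one_mul] at e
          exact F.w1 e
    have hne1 : z₀ ≠ z₀ * w := fun e => F.w1 (left_eq_mul.1 e)
    have hne2 : v ≠ w * v := fun e => F.w1 (right_eq_mul.1 e)
    have : ((A ×ˢ B).filter fun q => ρ q = w) = ({z₀, z₀ * w} : Finset L) ×ˢ ({v, w * v} : Finset L) := by
      ext ⟨a, b⟩
      constructor
      · intro h
        obtain ⟨h1, h2⟩ := Finset.mem_filter.1 h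
        obtain ⟨ha, hb⟩ := Finset.mem_product.1 h1
        obtain ⟨-, -, -, hca, hcb⟩ := hρ _ h1
        rw [h2] at hca hcb
        have ha' := hT hca (memA.1 ha)
        have hbW : b ∈ W := by
          rcases F.memT b hcb with h | h
          · exact h
          · exfalso
            obtain ⟨u, hu, rfl⟩ : ∃ u ∈ W, b = z₀ * u := ⟨_, h, by group⟩
            have e : z₀ * u * z₀⁻¹ * u = 1 := by rw [hzi, ← hsq ww (memB.1 hb)]; group
            rcases H.mem_four F.hw F.hv F.w1 F.v1 F.vw hu with rfl | rfl | rfl | rfl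
            · exact H.not_isConj_w F (memB.1 hb) (by rw [mul_one])
            · exact H.not_isConj_w F (memB.1 hb) hzwA
            · rw [F.zv, mul_assoc, H.sqW _ F.hv, mul_one] at e
              exact F.w1 e
            · rw [show z₀ * (w * v) * z₀⁻¹ = (z₀ * w * z₀⁻¹) * (z₀ * v * z₀⁻¹) by group, F.zv,
                mul_inv_eq_iff_eq_mul.2 F.zw.eq, ← mul_assoc w w, ww, one_mul, H.commW F.hw F.hv, ← mul_assoc,
                H.sqW v F.hv, one_mul] at e
              exact F.w1 e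
        simp only [Finset.mem_product, Finset.mem_insert, Finset.mem_singleton]
        refine ⟨ha', ?_⟩
        rcases H.mem_four F.hw F.hv F.w1 F.v1 F.vw hbW with e | e | e | e
        · exact absurd (isConj_one_right.1 (e ▸ memB.1 hb).symm) F.w1
        · exfalso
          obtain rfl : w = b := e.symm
          have h11 : a * w * (a * w) = 1 := by
            rw [hca.symm.mul_mul_mul_comm, hsq zz (memA.1 ha), ww, one_mul]
          have hr : ρ (a, w) = a * w := hρeq _ _ h1 ⟨1, pow_one _⟩ h11 (fun e' => hAB a ha w hb (by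
            rw [← inv_eq_of_mul_eq_one_right e', inv_eq_of_mul_eq_one_right (hsq zz (memA.1 ha))]))
          rw [h2, right_eq_mul] at hr
          exact H.zW F ((isConj_one_left.1 (hr ▸ memA.1 ha : IsConj z₀ 1)) ▸ one_mem W)
        · exact Or.inl e
        · exact Or.inr e
      · intro h
        simp only [Finset.mem_product, Finset.mem_insert, Finset.mem_singleton] at h
        have hm : (a, b) ∈ A ×ˢ B := Finset.mem_product.2
          ⟨memA.2 (by rcases h.1 with rfl | rfl; exacts [IsConj.refl _, hzwA]),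
           memB.2 (by rcases h.2 with rfl | rfl; exacts [hvB, hwvB])⟩
        refine Finset.mem_filter.2 ⟨hm, hρeq _ _ hm ⟨2, ?_⟩ ww F.w1⟩
        have k1 : z₀ * v * (z₀ * v) = w := by
          rw [show z₀ * v * (z₀ * v) = z₀ * v * z₀ * v by group]
          nth_rewrite 2 [← hzi]
          rw [F.zv, mul_assoc, H.sqW v F.hv, mul_one]
        have k2 : z₀ * (w * v) * (z₀ * (w * v)) = w := by
          rw [← mul_assoc z₀ w v, F.zw.eq, mul_assoc w z₀ v,
            show w * (z₀ * v) * (w * (z₀ * v)) = w * (z₀ * v) * w * (z₀ * v) by group]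
          rw [show w * (z₀ * v) * w = w * z₀ * (v * w) by group, ← H.commW F.hw F.hv,
            show w * z₀ * (w * v) = w * (z₀ * w) * v by group, F.zw.eq, ← mul_assoc w w, ww, one_mul, k1]
        show (a * b) ^ 2 = w
        rw [pow_two]
        rcases h.1 with rfl | rfl <;> rcases h.2 with rfl | rfl
        · exact k1
        · exact k2
        · rwa [mul_assoc z₀ w]
        · rwa [mul_assoc z₀ w, ← mul_assoc w w, ww, one_mul]
    show Finset.card _ = 4
    rw [this, Finset.card_product, Finset.card_pair hne1, Finset.card_pair hne2]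
  have hnA := card_class_mul z₀
  have hnB := card_class_mul w
  rw [hC] at hnA
  rw [H.cw w F.hw F.w1] at hnB
  rw [f9, f4] at htot
  rw [← hA] at hnA
  rw [← hB] at hnB
  have hpos : 0 < Nat.card L := Nat.card_pos
  obtain ⟨k, hk⟩ : ∃ k, B.card = 3 * k := ⟨B.card / 3, by omega⟩
  have hk2 : A.card = 2 * k := by omega
  rw [hk, hk2] at htot
  have : k = 5 := by
    have h6 : k * (6 * k) = k * 30 := by linarith
    have := mul_left_cancel₀ (by omega : k ≠ 0) h6
    omega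
  omega

/-- The group is the symmetric group of degree five. -/
theorem nonempty_mulEquiv [Finite L] : Nonempty (L ≃* Equiv.Perm (Fin 5)) := by
  classical
  have := Fintype.ofFinite L
  have hL := H.card_eq F
  have ww := H.sqW w F.hw
  obtain ⟨d, hd3, hdW, hdf⟩ := H.rot
  set N := normalizer (W : Set L) with hNdef
  have hmemN : ∀ g : L, (∀ u ∈ W, g * u * g⁻¹ ∈ W) → g ∈ N := fun g hg =>
    mem_normalizer_iff.2 fun u => ⟨hg u, fun hu => by
      have hinj : Function.Injective (fun r : ↥W => (⟨g * r * g⁻¹, hg r r.2⟩ : ↥W)) := fun a b e =>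
        Subtype.ext (mul_left_cancel (mul_right_cancel (congrArg Subtype.val e : g * (a : L) * g⁻¹ = g * b * g⁻¹)))
      obtain ⟨r, hr⟩ := (Finite.injective_iff_surjective.1 hinj) ⟨g * u * g⁻¹, hu⟩
      have : g * (r : L) * g⁻¹ = g * u * g⁻¹ := congrArg Subtype.val hr
      rw [← mul_left_cancel (mul_right_cancel this)]
      exact r.2⟩
  have hWN : W ≤ N := Subgroup.le_normalizer
  have hdN : d ∈ N := hmemN d hdW
  have hzN : z₀ ∈ N := hmemN z₀ fun u hu => by
    rcases H.mem_four F.hw F.hv F.w1 F.v1 F.vw hu with rfl | rfl | rfl | rfl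
    · rw [mul_one, mul_inv_cancel]; exact one_mem W
    · rw [F.zw.eq, mul_inv_cancel_right]; exact F.hw
    · rw [F.zv]; exact mul_mem F.hw F.hv
    · rw [show z₀ * (w * v) * z₀⁻¹ = (z₀ * w * z₀⁻¹) * (z₀ * v * z₀⁻¹) by group, F.zv, F.zw.eq, mul_inv_cancel_right]
      exact mul_mem F.hw (mul_mem F.hw F.hv)
  have hTN : centralizer ({w} : Set L) ≤ N := fun x hx => by
    rcases F.memT x (mem_iff_commute.1 hx) with h | h
    · exact hWN h
    · have := mul_mem hzN (hWN h)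
      rwa [mul_inv_cancel_left] at this
  have h8 : 8 ∣ Nat.card ↥N := H.cw w F.hw F.w1 ▸ card_dvd_of_le hTN
  have h3 : 3 ∣ Nat.card ↥N := by
    have hd1 : d ≠ 1 := fun e => F.w1 (hdf w F.hw (by rw [e]; group))
    have := Subgroup.orderOf_dvd_natCard N hdN
    rwa [orderOf_eq_prime (hp := ⟨Nat.prime_three⟩) hd3 hd1] at this
  -- conjugates of `w` in `N` lie in `W`
  have hclass : ∀ x ∈ N, IsConj w x → x ∈ W := by
    intro x hx hc
    have xx : x * x = 1 := by
      obtain ⟨g, rfl⟩ := isConj_iff.1 hc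
      rw [show g * w * g⁻¹ * (g * w * g⁻¹) = g * (w * w) * g⁻¹ by group, ww]; group
    have hxW : ∀ u ∈ W, x * u * x⁻¹ ∈ W := fun u hu => (mem_normalizer_iff.1 hx u).1 hu
    have hx2 : ∀ u ∈ W, x * (x * u * x⁻¹) * x⁻¹ = u := fun u _ => by
      rw [show x * (x * u * x⁻¹) * x⁻¹ = (x * x) * u * (x * x)⁻¹ by group, xx]; group
    obtain ⟨u, hu, u1, hcu⟩ : ∃ u ∈ W, u ≠ 1 ∧ Commute x u := by
      by_cases h : x * w * x⁻¹ = w
      · exact ⟨w, F.hw, F.w1, mul_inv_eq_iff_eq_mul.1 h⟩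
      · obtain ⟨h1, h2⟩ := H.fixed_of_sq hxW hx2 F.hw h
        exact ⟨_, mul_mem F.hw (hxW w F.hw), h1, mul_inv_eq_iff_eq_mul.1 h2⟩
    -- move `u` to `w` by a power of `d`
    obtain ⟨g, hgW, hgu⟩ : ∃ g : L, (∀ r ∈ W, g⁻¹ * r * g ∈ W) ∧ g * u * g⁻¹ = w := by
      have hd2 : ∀ r ∈ W, d * d * r * (d * d)⁻¹ ∈ W := fun r hr => by
        rw [show d * d * r * (d * d)⁻¹ = d * (d * r * d⁻¹) * d⁻¹ by group]; exact hdW _ (hdW r hr)
      have hdi : d⁻¹ = d * d := inv_eq_of_mul_eq_one_right (by rw [← mul_assoc, ← hd3]; simp [pow_succ])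
      have h1 : d * w * d⁻¹ ≠ 1 := fun e => F.w1 (conj_eq_one_iff.1 e)
      have h2 : d * w * d⁻¹ ≠ w := fun e => F.w1 (hdf w F.hw e)
      rcases H.mem_four F.hw (hdW w F.hw) F.w1 h1 h2 hu with e | e | e | e
      · exact absurd e u1
      · exact ⟨1, fun r hr => by simpa using hr, by rw [e]; group⟩
      · refine ⟨d⁻¹, fun r hr => by rw [inv_inv]; exact hdW r hr, by rw [e]; group⟩
      · refine ⟨d, fun r hr => by
          rw [hdi]
          have := hd2 r hr
          rwa [show (d * d)⁻¹ = d from by rw [← hdi, inv_inv]] at this, ?_⟩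
        have hu' : u = d * (d * w * d⁻¹) * d⁻¹ := by
          have h3 : d * (d * w * d⁻¹) * d⁻¹ ≠ d * w * d⁻¹ := fun e' => h1 (hdf _ (hdW w F.hw) e')
          have h4 : d * (d * w * d⁻¹) * d⁻¹ ≠ 1 := fun e' => h1 (conj_eq_one_iff.1 e')
          rcases H.mem_four F.hw (hdW w F.hw) F.w1 h1 h2 (hdW _ (hdW w F.hw)) with e' | e' | e' | e'
          · exact absurd e' h4
          · exfalso
            refine h2 ?_
            calc d * w * d⁻¹ = d * (d * (d * w * d⁻¹) * d⁻¹) * d⁻¹ := by rw [e']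
              _ = d ^ 3 * w * (d ^ 3)⁻¹ := by simp [pow_succ, mul_assoc]
              _ = w := by simp [hd3]
          · exact absurd e' h3
          · rw [e', e]
        rw [hu', show d * (d * (d * w * d⁻¹) * d⁻¹) * d⁻¹ = d ^ 3 * w * (d ^ 3)⁻¹ by simp [pow_succ, mul_assoc], hd3]
        group
    have hy : Commute (g * x * g⁻¹) w := by
      rw [← hgu]
      show g * x * g⁻¹ * (g * u * g⁻¹) = g * u * g⁻¹ * (g * x * g⁻¹)
      rw [show g * x * g⁻¹ * (g * u * g⁻¹) = g * (x * u) * g⁻¹ by group, hcu.eq]; group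
    have hyB : IsConj w (g * x * g⁻¹) := hc.trans (isConj_conj g x)
    suffices h : g * x * g⁻¹ ∈ W by
      have := hgW _ h
      rwa [show g⁻¹ * (g * x * g⁻¹) * g = x by group] at this
    rcases F.memT _ hy with h | h
    · exact h
    · exfalso
      obtain ⟨r, hr, he⟩ : ∃ r ∈ W, g * x * g⁻¹ = z₀ * r := ⟨_, h, by group⟩
      have yy : z₀ * r * (z₀ * r) = 1 := by
        rw [← he, show g * x * g⁻¹ * (g * x * g⁻¹) = g * (x * x) * g⁻¹ by group, xx]; group
      have e : z₀ * r * z₀⁻¹ * r = 1 := by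
        rw [inv_eq_of_mul_eq_one_right (H.zz₀ F), ← yy]; group
      rw [he] at hyB
      rcases H.mem_four F.hw F.hv F.w1 F.v1 F.vw hr with rfl | rfl | rfl | rfl
      · exact H.not_isConj_w F hyB (by rw [mul_one])
      · obtain ⟨-, p, hp3, -, hpc, hwp, -⟩ := H.exists_three F
        have h' := (H.conj_wq F hp3 hpc hwp (one_mem (zpowers p))).2.2.2.2.2
        rw [mul_one] at h'
        exact H.not_isConj_w F hyB h'
      · rw [F.zv, mul_assoc, H.sqW _ F.hv, mul_one] at e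
        exact F.w1 e
      · rw [show z₀ * (w * v) * z₀⁻¹ = (z₀ * w * z₀⁻¹) * (z₀ * v * z₀⁻¹) by group, F.zv,
          mul_inv_eq_iff_eq_mul.2 F.zw.eq, ← mul_assoc w w, ww, one_mul, H.commW F.hw F.hv, ← mul_assoc,
          H.sqW v F.hv, one_mul] at e
        exact F.w1 e
  have hB : (Finset.univ.filter fun y => IsConj w y).card = 15 := by
    have := card_class_mul w
    rw [H.cw w F.hw F.w1, hL] at this
    omega
  have hnot : ¬ (∀ x, IsConj w x → x ∈ W) := by
    intro h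
    have h' : (Finset.univ.filter fun y => IsConj w y).card ≤ Nat.card ↥W := by
      rw [Nat.card_eq_fintype_card, Fintype.card_subtype]
      exact Finset.card_le_card fun y hy => Finset.mem_filter.2 ⟨Finset.mem_univ _, h y (Finset.mem_filter.1 hy).2⟩
    rw [hB, H.cardW] at h'
    omega
  have hidx : N.index = 5 := by
    have h24 : 24 ∣ Nat.card ↥N := Nat.Coprime.mul_dvd_of_dvd_of_dvd (by norm_num : Nat.Coprime 8 3) h8 h3
    obtain ⟨k, hk⟩ := h24
    have hi := N.card_mul_index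
    rw [hk, hL] at hi
    have h1 : N.index ≠ 1 := fun e => hnot fun x hx => hclass x (Subgroup.index_eq_one.1 e ▸ mem_top x) hx
    have h5 : k * N.index = 5 := by linarith
    exact ((Nat.dvd_prime (by norm_num : Nat.Prime 5)).1 ⟨k, by rw [← h5]; ring⟩).resolve_left h1
  have hker : (MulAction.toPermHom L (L ⧸ N)).ker = ⊥ := by
    rw [← normalCore_eq_ker]
    have hRN : N.normalCore ≤ N := N.normalCore_le
    have hRW : ∀ x ∈ N.normalCore, x ∈ W → x = 1 := by
      intro x hxR hxW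
      by_contra hx1
      have hwR : IsConj x w := (H.cycle_all F.hw F.w1 hxW hx1).symm
      refine hnot fun y hy => hclass y (hRN ?_) hy
      obtain ⟨g, hg⟩ := isConj_iff.1 (hwR.trans hy)
      exact hg ▸ N.normalCore_normal.conj_mem x hxR g
    rw [eq_bot_iff]
    intro r hr
    refine mem_bot.2 (hRW r hr (F.centW r fun u hu => ?_))
    have h1 : r * u * r⁻¹ * u⁻¹ ∈ N.normalCore := by
      rw [show r * u * r⁻¹ * u⁻¹ = r * (u * r⁻¹ * u⁻¹) by group]
      exact mul_mem hr (N.normalCore_normal.conj_mem _ (inv_mem hr) u)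
    have h2 : r * u * r⁻¹ * u⁻¹ ∈ W := mul_mem ((mem_normalizer_iff.1 (hRN hr) u).1 hu) (inv_mem hu)
    have h3 := hRW _ h1 h2
    rw [mul_inv_eq_one, mul_inv_eq_iff_eq_mul] at h3
    exact h3
  have hinj : Function.Injective (MulAction.toPermHom L (L ⧸ N)) := (MonoidHom.ker_eq_bot_iff _).1 hker
  have hc : Nat.card (L ⧸ N) = 5 := hidx
  obtain ⟨e⟩ : Nonempty ((L ⧸ N) ≃ Fin 5) := ⟨(Finite.equivFin _).trans (finCongr hc)⟩
  have hcard : Nat.card L = Nat.card (Equiv.Perm (L ⧸ N)) := by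
    rw [Nat.card_perm, hc, hL]; rfl
  exact ⟨(MulEquiv.ofBijective _ ((Nat.bijective_iff_injective_and_card _).2 ⟨hinj, hcard⟩)).trans e.permCongrHom⟩

end FiveHyp

/-- The conclusions. -/
theorem five_sym [Finite L] {z : L} {W : Subgroup L} (H : FiveHyp z W) :
    Nat.card L = 120 ∧ Nat.card ↥(centralizer ({z} : Set L)) = 12 ∧
      (∀ x : L, x * x = 1 → x ≠ 1 → IsConj z x ∨ ∃ u ∈ W, IsConj u x) ∧
      Nonempty (L ≃* Equiv.Perm (Fin 5)) := by
  obtain ⟨z₀, w, v, F⟩ := H.exists_frame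
  refine ⟨H.card_eq F, ?_, fun x xx x1 => ?_, H.nonempty_mulEquiv F⟩
  · rcases H.cz with e | e
    · exfalso
      obtain ⟨hC, -⟩ := H.exists_three F
      obtain ⟨g, hg⟩ := isConj_iff.1 F.hz₀
      have := Nat.card_congr ((MulAut.conj g).toEquiv.subtypeEquiv
        (p := fun x => x ∈ centralizer ({z} : Set L)) (q := fun x => x ∈ centralizer ({z₀} : Set L)) fun x => by
        rw [mem_iff_commute, mem_iff_commute, ← hg]
        exact ⟨fun h => h.map (MulAut.conj g), fun h => (MulAut.conj g).injective (by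
          rw [map_mul, map_mul]; exact h.eq)⟩)
      omega
    · exact e
  · exact (F.all x xx x1).imp (fun h => F.hz₀.trans h) fun h => ⟨w, F.hw, h⟩

end Cfsg.Agent.Lib.J4Seven4
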