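import Cfsg.Agent.Lib.J4Seven4.Local
import Cfsg.Agent.Lib.J4Seven4.FiveSym
import Cfsg.Prelude.Def_TwoFusion

/-!
# The local structure at seven of a group of type J4
-/

set_option autoImplicit false
set_option linter.unusedSectionVars false

namespace Cfsg.Agent.Lib.J4Seven4

open Cfsg Cfsg.Agent.Lib.J4Type19 Subgroup

attribute [local instance] m22_finite

/-- The conclusion. -/
def SevenStructure {G : Type*} [Group G] (S : Subgroup G) : Prop :=
  ¬ (49 ∣ Nat.card G) ∧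
    (∃ I : Subgroup G, Cfsg.IsInternalDirectProduct S I (Subgroup.centralizer (S : Set G)) ∧
      Nonempty (↥I ≃* Equiv.Perm (Fin 5))) ∧
    Nat.card ↥(Subgroup.normalizer (S : Set G)) = 3 * Nat.card ↥(Subgroup.centralizer (S : Set G)) ∧
    Nat.card ↥(Subgroup.normalizer (S : Set G)) = 2 ^ 3 * 3 ^ 2 * 5 * 7

variable {G : Type*} [Group G] [Finite G]

theorem SevenStructure.conj {S : Subgroup G} (h : SevenStructure S) (g : G) :
    SevenStructure (S.map (MulAut.conj g).toMonoidHom) := by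
  obtain ⟨h49, ⟨I, ⟨hSC, hIC, hcomm, hinf, hsup⟩, ⟨e⟩⟩, h1, h2⟩ := h
  have hinj : Function.Injective (MulAut.conj g).toMonoidHom := (MulAut.conj g).injective
  have hC : centralizer ((S.map (MulAut.conj g).toMonoidHom : Subgroup G) : Set G) =
      (centralizer (S : Set G)).map (MulAut.conj g).toMonoidHom := by
    ext x
    rw [mem_map_equiv, mem_centralizer_iff, mem_centralizer_iff]
    constructor
    · intro hx y hy
      exact (MulAut.conj g).injective (by
        simp only [map_mul, MulEquiv.apply_symm_apply]; exact hx _ ⟨y, hy, rfl⟩)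
    · rintro hx _ ⟨y, hy, rfl⟩
      have := congrArg (MulAut.conj g) (hx y hy)
      simp only [map_mul, MulEquiv.apply_symm_apply] at this
      exact this
  have hN : Nat.card ↥(normalizer ((S.map (MulAut.conj g).toMonoidHom : Subgroup G) : Set G)) =
      Nat.card ↥(normalizer (S : Set G)) := by
    rw [← map_equiv_normalizer_eq S (MulAut.conj g)]
    exact card_map_of_injective hinj
  refine ⟨h49, ⟨I.map (MulAut.conj g).toMonoidHom, ⟨?_, ?_, ?_, ?_, ?_⟩,
    ⟨(I.equivMapOfInjective _ hinj).symm.trans e⟩⟩, ?_, ?_⟩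
  · rw [hC]; exact map_mono hSC
  · rw [hC]; exact map_mono hIC
  · rintro _ ⟨a, ha, rfl⟩ _ ⟨b, hb, rfl⟩
    rw [← map_mul, ← map_mul, hcomm a ha b hb]
  · rw [← Subgroup.map_inf _ _ _ hinj, hinf, Subgroup.map_bot]
  · rw [hC, ← Subgroup.map_sup, hsup]
  · rw [hN, hC, card_map_of_injective hinj]; exact h1
  · rw [hN]; exact h2

variable {z : G} {P : Subgroup G}

theorem LocalData.conj {s : G} {W : Subgroup G} (L : LocalData z P s W) (g : G) :
    LocalData z P (g * s * g⁻¹) (W.map (MulAut.conj g).toMonoidHom) where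
  s7 := ((MulAut.conj g).orderOf_eq s).trans L.s7
  conjC := by
    obtain ⟨a, ha⟩ := L.conjC
    exact ⟨a * g⁻¹, by rwa [show a * g⁻¹ * (g * s * g⁻¹) * (a * g⁻¹)⁻¹ = a * s * a⁻¹ by group]⟩
  cardW := (card_map_of_injective (MulAut.conj g).injective).trans L.cardW
  sqW := by
    rintro _ ⟨u, hu, rfl⟩
    rw [← map_mul, L.sqW u hu, map_one]
  centW := by
    rintro _ ⟨u, hu, rfl⟩
    exact (L.centW u hu).map (MulAut.conj g)
  notz := by
    rintro _ ⟨u, hu, rfl⟩ h
    exact L.notz u hu (h.trans (isConj_conj g u).symm)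
  card_cent := by
    rintro _ ⟨u, hu, rfl⟩ u1
    refine Eq.trans ?_ (L.card_cent u hu (fun e => u1 (by rw [e, map_one])))
    refine (Nat.card_congr ((MulAut.conj g).toEquiv.subtypeEquiv fun x => ?_)).symm
    show x ∈ centralizer ({s} : Set G) ⊓ centralizer ({u} : Set G) ↔
      MulAut.conj g x ∈ centralizer ({MulAut.conj g s} : Set G) ⊓ centralizer ({MulAut.conj g u} : Set G)
    simp only [mem_inf, mem_centralizer_singleton_iff, ← map_mul, (MulAut.conj g).injective.eq_iff]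
  rot := by
    obtain ⟨d, hds, hd3, hdW, hdf⟩ := L.rot
    refine ⟨MulAut.conj g d, hds.map _, by rw [← map_pow, hd3, map_one], ?_, ?_⟩
    · rintro _ ⟨u, hu, rfl⟩
      exact ⟨d * u * d⁻¹, hdW u hu, by simp [mul_assoc]⟩
    · rintro _ ⟨u, hu, rfl⟩ he
      have : d * u * d⁻¹ = u := (MulAut.conj g).injective (by rw [map_mul, map_mul, map_inv]; exact he)
      rw [hdf u hu this, map_one]
  flip := by
    obtain ⟨t, hts, htW, ht2, u, hu, hne⟩ := L.flip
    refine ⟨MulAut.conj g t, hts.map _, ?_, ?_, MulAut.conj g u, ⟨u, hu, rfl⟩, fun he => hne ?_⟩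
    · rintro _ ⟨v, hv, rfl⟩
      exact ⟨t * v * t⁻¹, htW v hv, by simp [mul_assoc]⟩
    · rintro _ ⟨v, hv, rfl⟩
      conv_rhs => rw [← ht2 v hv]
      simp [mul_assoc]
    · exact (MulAut.conj g).injective (by rw [map_mul, map_mul, map_inv]; exact he)

/-- The structure at the chosen subgroup of order seven. -/
theorem structure_at (D : HData z P) {s : G} (hs : s ∈ cC z P) {W : Subgroup G} (L : LocalData z P s W) :
    SevenStructure (zpowers s) := by
  classical
  have h7 := L.s7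
  have : Fact (Nat.Prime 7) := ⟨by norm_num⟩
  set K := centralizer ({s} : Set G) with hKdef
  have hsK : s ∈ K := mem_centralizer_singleton_iff.2 rfl
  have hQK : zpowers s ≤ K := zpowers_le.2 hsK
  set Q := (zpowers s).subgroupOf K with hQdef
  have hQc : ∀ x ∈ Q, ∀ k : ↥K, k * x = x * k := by
    intro x hx k
    obtain ⟨i, hi⟩ := mem_zpowers_iff.1 (mem_subgroupOf.1 hx)
    refine Subtype.ext ?_
    show (k : G) * x = x * k
    rw [← hi]
    exact ((show Commute (k : G) s from mem_centralizer_singleton_iff.1 k.2).zpow_right i).eq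
  have hQn : Q.Normal := ⟨fun x hx k => by rw [hQc x hx k, mul_inv_cancel_right]; exact hx⟩
  have hQ7 : Nat.card ↥Q = 7 := by
    rw [hQdef, Nat.card_congr (subgroupOfEquivOfLe hQK).toEquiv, Nat.card_zpowers, h7]
  let q : ↥K →* ↥K ⧸ Q := QuotientGroup.mk' Q
  have qs : Function.Surjective q := QuotientGroup.mk'_surjective Q
  have hqker : ∀ {x : ↥K}, q x = 1 ↔ (x : G) ∈ zpowers s := fun {x} =>
    (QuotientGroup.eq_one_iff x).trans mem_subgroupOf
  -- an element squaring to one in the kernel is trivial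
  have hsq1 : ∀ {x : ↥K}, x * x = 1 → q x = 1 → x = 1 := fun {x} xx hx => by
    have h1 : orderOf x ∣ 7 := hQ7 ▸ Subgroup.orderOf_dvd_natCard Q ((QuotientGroup.eq_one_iff x).1 hx)
    have h2 : orderOf x ∣ 2 := orderOf_dvd_of_pow_eq_one (by rw [pow_two, xx])
    exact orderOf_eq_one_iff.1 (Nat.dvd_one.1 (Nat.dvd_gcd h1 h2))
  have heqv : ∀ {x y : ↥K}, x * x = 1 → y * y = 1 → q x = q y → x = y := fun {x y} xx yy e => by
    have hm : q (y⁻¹ * x) = 1 := by rw [map_mul, map_inv, e, inv_mul_cancel]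
    have hc : Commute y (y⁻¹ * x) := hQc _ ((QuotientGroup.eq_one_iff _).1 hm) y
    have hsq : (y⁻¹ * x) * (y⁻¹ * x) = 1 := by
      have h1 : y * (y⁻¹ * x) * (y * (y⁻¹ * x)) = 1 := by rw [mul_inv_cancel_left, xx]
      rwa [hc.symm.mul_mul_mul_comm, yy, one_mul] at h1
    exact (inv_mul_eq_one.1 (hsq1 hsq hm)).symm
  have hconj : ∀ {x : ↥K}, x * x = 1 → ∀ k : ↥K, k * x * k⁻¹ * (k * x * k⁻¹) = 1 := fun {x} xx k => by
    rw [show k * x * k⁻¹ * (k * x * k⁻¹) = k * (x * x) * k⁻¹ by group, xx]; group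
  have hcent : ∀ (x : G) (hx : x ∈ K), x * x = 1 → x ≠ 1 →
      7 * Nat.card ↥(centralizer ({q ⟨x, hx⟩} : Set (↥K ⧸ Q))) = Nat.card ↥(K ⊓ centralizer ({x} : Set G)) := by
    intro x hx xx _
    set A := (centralizer ({q ⟨x, hx⟩} : Set (↥K ⧸ Q))).comap q
    have h1 := A.card_mul_index
    rw [index_comap_of_surjective _ qs, ← Q.card_mul_index, hQ7, Q.index_eq_card,
      ← (centralizer ({q ⟨x, hx⟩} : Set (↥K ⧸ Q))).card_mul_index, ← mul_assoc] at h1
    have h2 : Nat.card ↥A = 7 * Nat.card ↥(centralizer ({q ⟨x, hx⟩} : Set (↥K ⧸ Q))) :=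
      Nat.eq_of_mul_eq_mul_right (Nat.pos_of_ne_zero FiniteIndex.index_ne_zero) h1
    rw [← h2]
    have hxx : (⟨x, hx⟩ : ↥K) * ⟨x, hx⟩ = 1 := Subtype.ext xx
    refine Nat.card_congr
      { toFun := fun a => ⟨((a : ↥K) : G), (a : ↥K).2, ?_⟩
        invFun := fun a => ⟨⟨a, a.2.1⟩, ?_⟩
        left_inv := fun _ => rfl
        right_inv := fun _ => rfl }
    · refine mem_centralizer_singleton_iff.2 ?_
      have hc := mem_centralizer_singleton_iff.1 (mem_comap.1 a.2)
      have h3 : q ((a : ↥K) * ⟨x, hx⟩ * (a : ↥K)⁻¹) = q ⟨x, hx⟩ := by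
        rw [map_mul, map_mul, map_inv, hc, mul_inv_cancel_right]
      have h4 := heqv (hconj hxx _) hxx h3
      exact congrArg Subtype.val (mul_inv_eq_iff_eq_mul.1 h4)
    · refine mem_comap.2 (mem_centralizer_singleton_iff.2 ?_)
      rw [← map_mul, ← map_mul]
      exact congrArg q (Subtype.ext (mem_centralizer_singleton_iff.1 a.2.2))
  have hlift : ∀ {x y : ↥K}, x * x = 1 → y * y = 1 → IsConj (q x) (q y) → ∃ k : ↥K, k * x * k⁻¹ = y := by
    intro x y xx yy h
    obtain ⟨c, hc⟩ := isConj_iff.1 h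
    obtain ⟨k, rfl⟩ := qs c
    refine ⟨k, heqv (hconj xx k) yy ?_⟩
    rw [map_mul, map_mul, map_inv, hc]
  have hzK : z ∈ K := mem_centralizer_singleton_iff.2 (D.comm_z ⟨s, hs⟩)
  have hzz : (⟨z, hzK⟩ : ↥K) * ⟨z, hzK⟩ = 1 := Subtype.ext (z_sq D.hJ)
  have hWK : W ≤ K := fun u hu => mem_centralizer_singleton_iff.2 (L.centW u hu)
  set WL := (W.subgroupOf K).map q
  have hWinj : ∀ {u v : G} (hu : u ∈ W) (hv : v ∈ W), q ⟨u, hWK hu⟩ = q ⟨v, hWK hv⟩ → u = v := fun hu hv e =>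
    congrArg Subtype.val (heqv (Subtype.ext (L.sqW _ hu)) (Subtype.ext (L.sqW _ hv)) e)
  have hmemWL : ∀ {c : ↥K ⧸ Q}, c ∈ WL → ∃ u, ∃ hu : u ∈ W, q ⟨u, hWK hu⟩ = c := by
    rintro c ⟨⟨u, huK⟩, hu, rfl⟩
    exact ⟨u, mem_subgroupOf.1 hu, rfl⟩
  have hinWL : ∀ {u : G} (hu : u ∈ W), q ⟨u, hWK hu⟩ ∈ WL := fun hu => ⟨_, mem_subgroupOf.2 hu, rfl⟩
  have hWL : Nat.card ↥WL = 4 := by
    rw [← L.cardW]
    refine (Nat.card_congr (Equiv.ofBijective (fun u : ↥W => (⟨q ⟨u, hWK u.2⟩, hinWL u.2⟩ : ↥WL)) ⟨?_, ?_⟩)).symm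
    · exact fun a b e => Subtype.ext (hWinj a.2 b.2 (congrArg Subtype.val e))
    · rintro ⟨c, hc⟩
      obtain ⟨u, hu, rfl⟩ := hmemWL hc
      exact ⟨⟨u, hu⟩, rfl⟩
  have hKH : K ⊓ centralizer ({z} : Set G) = cH z ⊓ centralizer ({s} : Set G) := inf_comm _ _
  have H : FiveHyp (q ⟨z, hzK⟩) WL := by
    refine ⟨by rw [← map_mul, hzz, map_one], fun e => z_ne D.hJ (congrArg Subtype.val (hsq1 hzz e)), ?_, hWL,
      ?_, ?_, ?_, ?_, ?_⟩
    · have h := hcent z hzK (z_sq D.hJ) (z_ne D.hJ)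
      rw [hKH] at h
      rcases card_CH D hs h7 with e | ⟨e, -⟩ <;> rw [e] at h
      · left; omega
      · right; omega
    · intro c hc
      obtain ⟨u, hu, rfl⟩ := hmemWL hc
      rw [← map_mul, show (⟨u, hWK hu⟩ : ↥K) * ⟨u, hWK hu⟩ = 1 from Subtype.ext (L.sqW u hu), map_one]
    · intro c hc c1
      obtain ⟨u, hu, rfl⟩ := hmemWL hc
      have u1 : u ≠ 1 := fun e => c1 (by subst e; exact map_one q)
      have h := hcent u (hWK hu) (L.sqW u hu) u1
      rw [L.card_cent u hu u1] at h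
      omega
    · intro c hc hzc
      obtain ⟨u, hu, rfl⟩ := hmemWL hc
      obtain ⟨k, hk⟩ := hlift hzz (Subtype.ext (L.sqW u hu)) hzc
      exact L.notz u hu (isConj_iff.2 ⟨k, congrArg Subtype.val hk⟩)
    · obtain ⟨d, hds, hd3, hdW, hdf⟩ := L.rot
      refine ⟨q ⟨d, mem_centralizer_singleton_iff.2 hds⟩, by rw [← map_pow, ← map_one q]; exact congrArg q (Subtype.ext hd3),
        fun c hc => ?_, fun c hc e => ?_⟩
      · obtain ⟨u, hu, rfl⟩ := hmemWL hc
        rw [← map_inv, ← map_mul, ← map_mul]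
        exact hinWL (hdW u hu)
      · obtain ⟨u, hu, rfl⟩ := hmemWL hc
        rw [← map_inv, ← map_mul, ← map_mul] at e
        have := hdf u hu (hWinj (hdW u hu) hu e)
        subst this
        exact map_one q
    · obtain ⟨t, hts, htW, ht2, u, hu, hne⟩ := L.flip
      refine ⟨q ⟨t, mem_centralizer_singleton_iff.2 hts⟩, fun c hc => ?_, fun c hc => ?_, q ⟨u, hWK hu⟩, hinWL hu,
        fun e => hne ?_⟩
      · obtain ⟨v, hv, rfl⟩ := hmemWL hc
        rw [← map_inv, ← map_mul, ← map_mul]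
        exact hinWL (htW v hv)
      · obtain ⟨v, hv, rfl⟩ := hmemWL hc
        simp only [← map_inv, ← map_mul]
        exact congrArg q (Subtype.ext (ht2 v hv))
      · rw [← map_inv, ← map_mul, ← map_mul] at e
        exact hWinj (htW u hu) hu e
  obtain ⟨hL, hCz, hclass, ⟨e5⟩⟩ := five_sym H
  have hK : Nat.card ↥K = 840 := by
    rw [← Q.card_mul_index, hQ7, Q.index_eq_card, hL]
  have h84 : Nat.card ↥(cH z ⊓ centralizer ({s} : Set G)) = 84 := by
    rw [← hKH, ← hcent z hzK (z_sq D.hJ) (z_ne D.hJ), hCz]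
  have hfus : ∀ g : G, Commute (g * z * g⁻¹) s → ∃ k, Commute k s ∧ k * (g * z * g⁻¹) * k⁻¹ = z := by
    intro g hg
    have hxK : g * z * g⁻¹ ∈ K := mem_centralizer_singleton_iff.2 hg
    have xx : (⟨_, hxK⟩ : ↥K) * ⟨_, hxK⟩ = 1 := Subtype.ext (by
      show g * z * g⁻¹ * (g * z * g⁻¹) = 1
      rw [show g * z * g⁻¹ * (g * z * g⁻¹) = g * (z * z) * g⁻¹ by group, z_sq D.hJ]; group)
    have hq1 : q ⟨_, hxK⟩ ≠ 1 := fun e => z_ne D.hJ (conj_eq_one_iff.1 (congrArg Subtype.val (hsq1 xx e)))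
    rcases hclass (q ⟨_, hxK⟩) (by rw [← map_mul, xx, map_one]) hq1 with h | ⟨c, hc, h⟩
    · obtain ⟨k, hk⟩ := hlift xx hzz h.symm
      exact ⟨k, mem_centralizer_singleton_iff.1 k.2, congrArg Subtype.val hk⟩
    · exfalso
      obtain ⟨u, hu, rfl⟩ := hmemWL hc
      obtain ⟨k, hk⟩ := hlift (Subtype.ext (L.sqW u hu)) xx h
      exact L.notz u hu ((isConj_conj g z).trans (IsConj.symm (isConj_iff.2 ⟨k, congrArg Subtype.val hk⟩)))
  have hN := card_normalizer D hs h7 hK h84 hfus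
  have hCeq : centralizer ((zpowers s : Subgroup G) : Set G) = K := by
    rw [zpowers_eq_closure, centralizer_closure]
  refine ⟨fun h49 => ?_, ?_, by rw [hCeq, hK, hN], by rw [hN]; norm_num⟩
  · obtain ⟨R, hR, hsR⟩ := Sylow.exists_subgroup_card_pow_succ (p := 7) (n := 1) (by simpa using h49)
      (H := zpowers s) (by rw [Nat.card_zpowers, h7, pow_one])
    have hle : R ≤ K := fun x hx => mem_centralizer_singleton_iff.2
      (congrArg Subtype.val (IsPGroup.commutative_of_card_eq_prime_sq hR ⟨x, hx⟩ ⟨s, hsR (mem_zpowers s)⟩))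
    have := card_dvd_of_le hle
    rw [hR, hK] at this
    norm_num at this
  · obtain ⟨I₀, hI⟩ := exists_right_complement'_of_coprime (N := Q) (by rw [hQ7, Q.index_eq_card, hL]; norm_num)
    have hIK : I₀.map K.subtype ≤ K := map_subtype_le I₀
    have hbij : Function.Bijective (q.comp I₀.subtype) := by
      refine (Nat.bijective_iff_injective_and_card _).2 ⟨(injective_iff_map_eq_one _).2 fun a ha => ?_, ?_⟩
      · have hm : (a : ↥K) ∈ Q ⊓ I₀ := ⟨(QuotientGroup.eq_one_iff _).1 ha, a.2⟩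
        rw [disjoint_iff.1 hI.disjoint, mem_bot] at hm
        exact Subtype.ext hm
      · have := hI.card_mul
        rw [hQ7, hK] at this
        rw [hL]; omega
    rw [hCeq]
    refine ⟨I₀.map K.subtype, ⟨hQK, hIK, ?_, ?_, ?_⟩,
      ⟨(I₀.equivMapOfInjective K.subtype (subtype_injective K)).symm.trans ((MulEquiv.ofBijective _ hbij).trans e5)⟩⟩
    · intro a ha b hb
      obtain ⟨i, rfl⟩ := mem_zpowers_iff.1 ha
      exact ((show Commute s b from (mem_centralizer_singleton_iff.1 (hIK hb)).symm).zpow_left i).eq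
    · rw [eq_bot_iff]
      rintro x ⟨hx, ⟨a, ha, rfl⟩⟩
      have hm : a ∈ Q ⊓ I₀ := ⟨mem_subgroupOf.2 hx, ha⟩
      rw [disjoint_iff.1 hI.disjoint, mem_bot] at hm
      rw [mem_bot, hm]; rfl
    · refine le_antisymm (sup_le hQK hIK) fun x hx => ?_
      obtain ⟨⟨a, b⟩, hab⟩ := hI.2 ⟨x, hx⟩
      have hab' : ((a : ↥K) : G) * ((b : ↥K) : G) = x := congrArg Subtype.val hab
      rw [← hab']
      exact mul_mem (mem_sup_left (mem_subgroupOf.1 a.2)) (mem_sup_right ⟨b, b.2, rfl⟩)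

/-- The local structure at seven. -/
theorem seven_structure (D : HData z P) {s : G} {W : Subgroup G} (L : LocalData z P s W) (S : Subgroup G)
    (hS : Nat.card ↥S = 7) (hSz : S ≤ cH z) : SevenStructure S := by
  have : Fact (Nat.Prime 7) := ⟨by norm_num⟩
  obtain ⟨g, hg⟩ := L.conjC
  have hst := structure_at D hg (L.conj g)
  have := isCyclic_of_prime_card hS
  obtain ⟨⟨a, haS⟩, ha⟩ := IsCyclic.exists_generator (α := ↥S)
  have hSa : S = zpowers a := by
    refine le_antisymm (fun x hx => ?_) (zpowers_le.2 haS)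
    obtain ⟨i, hi⟩ := mem_zpowers_iff.1 (ha ⟨x, hx⟩)
    exact mem_zpowers_iff.2 ⟨i, congrArg Subtype.val hi⟩
  have a7 : orderOf a = 7 := by rw [← Nat.card_zpowers, ← hSa, hS]
  obtain ⟨h, -, hh⟩ := conj_in_H D hg.1 (hSz haS) (((MulAut.conj g).orderOf_eq s).trans L.s7) a7
  have := hst.conj h
  rwa [MonoidHom.map_zpowers, show (MulAut.conj h).toMonoidHom (g * s * g⁻¹) = h * (g * s * g⁻¹) * h⁻¹ from rfl, hh,
    ← hSa] at this

end Cfsg.Agent.Lib.J4Seven4
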