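import Cfsg.Agent.Lib.M22Nse57.Hist
import Cfsg.Agent.Lib.M22Nse57.Model
import Cfsg.Agent.Lib.SmallGroups.PrimeSylow

/-!
# Elements of order seven in M22
-/

set_option autoImplicit false

namespace Cfsg.Agent.Lib.J4Seven4

open Cfsg Subgroup

theorem m22_facts : M22Nse57.Facts ↥Cfsg.Spor.M22 := by
  have hG : Nat.card ↥Cfsg.Spor.M22 = 443520 := by
    rw [Fusion.Mathieu.eq_m22]
    exact Compute.Mathieu.card_m22
  have : Finite ↥Cfsg.Spor.M22 := Nat.finite_of_card_ne_zero (by rw [hG]; norm_num)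
  have hset : ∀ c : ℕ, (0 < c ∧ ∃ n : ℕ, c = Nat.card {g : ↥Cfsg.Spor.M22 // orderOf g = n}) ↔
      c ∈ [1, 1155, 12320, 41580, 88704, 36960, 126720, 55440, 80640] := fun c => by
    have h := Set.ext_iff.1 M22Nse57.m22_count_set c
    simpa using h
  exact M22Nse57.facts_of_counts hG (fun n hn => (hset _).1 ⟨hn, n, rfl⟩) (fun c hc => ((hset c).2 hc).2)

variable {M : Type*} [Group M] [Finite M]

/-- The centralizer of an element of order seven. -/
theorem card_cent_seven (F : M22Nse57.Facts M) {x : M} (hx : orderOf x = 7) :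
    Nat.card ↥(centralizer ({x} : Set M)) = 7 := by
  set C := centralizer ({x} : Set M)
  have hxC : x ∈ C := mem_centralizer_singleton_iff.2 rfl
  have h7 : 7 ∣ Nat.card ↥C := hx ▸ Subgroup.orderOf_dvd_natCard C hxC
  have hd : Nat.card ↥C ∣ 443520 := F.card ▸ C.card_subgroup_dvd_card
  obtain ⟨k, hk⟩ := h7
  by_contra hne
  have hk1 : k ≠ 1 := fun h => hne (by rw [hk, h])
  obtain ⟨q, hq, hqk⟩ := Nat.exists_prime_and_dvd hk1
  have hq7 : q ≠ 7 := by
    rintro rfl
    have h49 : 49 ∣ 443520 := dvd_trans (by rw [hk]; exact Nat.mul_dvd_mul_left 7 hqk) hd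
    norm_num at h49
  have : Fact q.Prime := ⟨hq⟩
  obtain ⟨y, hy⟩ := exists_prime_orderOf_dvd_card' (G := ↥C) q (dvd_trans hqk (Dvd.intro_left 7 hk.symm))
  have hc : Commute x (y : M) := (mem_centralizer_singleton_iff.1 y.2).symm
  have h := F.ord_mem (x * y)
  rw [hc.orderOf_mul_eq_mul_orderOf_of_coprime
    (by rw [hx, Subgroup.orderOf_coe, hy]; exact ((Nat.coprime_primes (by norm_num) hq).2 hq7.symm)),
    hx, Subgroup.orderOf_coe, hy] at h
  simp only [Finset.mem_insert, Finset.mem_singleton] at h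
  have := hq.two_le
  omega

/-- The normalizer of a subgroup of order seven. -/
theorem card_norm_seven (F : M22Nse57.Facts M) {x : M} (hx : orderOf x = 7) :
    Nat.card ↥(normalizer (zpowers x : Set M)) = 21 := by
  have : Fact (Nat.Prime 7) := ⟨by norm_num⟩
  obtain ⟨P⟩ : Nonempty (Sylow 7 M) := inferInstance
  have hP : Nat.card (P : Subgroup M) = 7 := by
    rw [SmallGroups.card_sylow_eq P (k := 1) (m := 63360) (by rw [F.card]; norm_num) (by norm_num), pow_one]
  obtain ⟨R, hR, -⟩ := SmallGroups.existsUnique_sylow_of_orderOf P hP hx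
  have hn := SmallGroups.card_orderOf_eq_prime P hP
  have hm := SmallGroups.card_normalizer_sylow_mul R
  rw [hR, F.card] at hm
  rw [F.c7] at hn
  have h : Nat.card (Sylow 7 M) = 21120 := by omega
  rw [h] at hm
  omega

end Cfsg.Agent.Lib.J4Seven4
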