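import Cfsg.Agent.Lib.J4Seven4.Fix
import Cfsg.Agent.Lib.J4Seven4.M22Seven
import Cfsg.Agent.Lib.J4Fusion14.Outer

/-!
# An element of order seven in the centralizer of an involution of a group of type J4
-/

set_option autoImplicit false
set_option linter.unusedSectionVars false

namespace Cfsg.Agent.Lib.J4Seven4

open Cfsg Cfsg.Agent.Lib.J4Type19 Cfsg.Agent.Lib.J4Fusion14 Subgroup

attribute [local instance] m22_finite

theorem seven_zpow {G : Type*} [Group G] {s : G} (h7 : orderOf s = 7) {a : G} (ha : a ∈ zpowers s) (a1 : a ≠ 1) :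
    zpowers a = zpowers s := by
  have : Fact (Nat.Prime 7) := ⟨by norm_num⟩
  exact SmallGroups.zpowers_eq_of_prime (by rw [Nat.card_zpowers, h7]) ha a1

theorem pow_six_seven {M : Type*} [Group M] {k : M} (h6 : k ^ 6 = 1) (h7 : k ^ 7 = 1) : k = 1 := by
  rwa [pow_succ, h6, one_mul] at h7

variable {G : Type*} [Group G] [Finite G] {z : G} {P : Subgroup G} (D : HData z P)

include D

theorem card_autM22 : Nat.card (MulAut M22t) = 887040 := by
  have h := (Inn M22t).card_mul_index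
  rw [show (Inn M22t).index = 2 from Compute.Mathieu.card_out_M22] at h
  have e : Nat.card ↥(Inn M22t) = 443520 :=
    (Nat.card_congr (MonoidHom.ofInjective m22_conj_injective).toEquiv).symm.trans m22_card
  omega

theorem seven_part : ¬ 49 ∣ Nat.card ↥(cH z) := by
  intro h
  have : Fact (Nat.Prime 7) := ⟨by norm_num⟩
  have hk : ¬ 7 ∣ Nat.card ↥D.φ.ker := by
    intro hd
    obtain ⟨x, hx⟩ := exists_prime_orderOf_dvd_card' (G := ↥D.φ.ker) 7 hd
    obtain ⟨e, he, q, hq, heq⟩ := (D.φ_eq _).1 (MonoidHom.mem_ker.1 x.2)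
    have h7 : orderOf (((x : ↥(cH z)) : G)) = 7 := by rw [Subgroup.orderOf_coe, Subgroup.orderOf_coe, hx]
    have hqH : q ∈ cH z := by
      rcases (D.mem_P q).1 hq with rfl | rfl | rfl
      exacts [one_mem _, D.pH, mul_mem D.pH D.pH]
    have hq3 : q ^ 3 = 1 := by
      rcases (D.mem_P q).1 hq with rfl | rfl | rfl
      · exact one_pow 3
      · exact D.p3
      · rw [← pow_two, ← pow_mul, mul_comm, pow_mul, D.p3, one_pow]
    have h3 : (e * q) ^ 3 ∈ cE z := by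
      rw [show (e * q) ^ 3 = e * (q * e * q⁻¹) * (q ^ 2 * e * (q ^ 2)⁻¹) * q ^ 3 by
        simp [pow_succ, mul_assoc], hq3, mul_one]
      exact mul_mem (mul_mem he (cE_conj hqH he)) (cE_conj (pow_mem hqH 2) he)
    have hd2 := Subgroup.orderOf_dvd_natCard _ h3
    rw [cardE D.hJ, ← heq, Nat.Coprime.orderOf_pow (by rw [h7]; norm_num), h7] at hd2
    norm_num at hd2
  have h2 := D.φ.ker.card_mul_index
  rw [Subgroup.index_ker] at h2
  have h3 : Nat.card ↥D.φ.range ∣ 887040 := card_autM22 D ▸ card_subgroup_dvd_card D.φ.range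
  have h4 : Nat.Coprime 49 (Nat.card ↥D.φ.ker) := by
    rw [show (49 : ℕ) = 7 ^ 2 by norm_num]
    exact Nat.Coprime.pow_left 2 ((Nat.Prime.coprime_iff_not_dvd (by norm_num)).2 hk)
  have := (h4.dvd_of_dvd_mul_left (h2 ▸ h)).trans h3
  norm_num at this

theorem exists_seven : ∃ s, s ∈ cC z P ∧ orderOf s = 7 := by
  have : Fact (Nat.Prime 7) := ⟨by norm_num⟩
  obtain ⟨x, hx⟩ := exists_prime_orderOf_dvd_card' (G := ↥(cC z P)) 7 (by rw [D.card_C]; norm_num)
  exact ⟨x, x.2, (Subgroup.orderOf_coe x).trans hx⟩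

/-- Subgroups of order seven of the centralizer of `z` are conjugate there. -/
theorem conj_in_H {s t : G} (hs : s ∈ cH z) (ht : t ∈ cH z) (s7 : orderOf s = 7) (t7 : orderOf t = 7) :
    ∃ h ∈ cH z, zpowers (h * s * h⁻¹) = zpowers t := by
  have : Fact (Nat.Prime 7) := ⟨by norm_num⟩
  obtain ⟨R⟩ : Nonempty (Sylow 7 ↥(cH z)) := inferInstance
  have hR : Nat.card (R : Subgroup ↥(cH z)) = 7 := by
    obtain ⟨n, hn⟩ := IsPGroup.iff_card.1 R.isPGroup'
    have hd : 7 ^ n ∣ Nat.card ↥(cH z) := hn ▸ card_subgroup_dvd_card _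
    have h1 : 7 ∣ Nat.card ↥(cH z) := s7 ▸ Subgroup.orderOf_dvd_natCard _ hs
    have h2 : n ≠ 0 := fun h0 => R.not_dvd_index (by
      have hi := (R : Subgroup ↥(cH z)).card_mul_index
      rw [hn, h0, pow_zero, one_mul] at hi
      rw [hi]; exact h1)
    have h3 : n < 2 := by
      by_contra h
      exact seven_part D (dvd_trans (pow_dvd_pow 7 (show 2 ≤ n by omega)) hd)
    rw [hn, show n = 1 by omega, pow_one]
  obtain ⟨A, hA, -⟩ := SmallGroups.existsUnique_sylow_of_orderOf R hR (y := (⟨s, hs⟩ : ↥(cH z)))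
    (by rw [← Subgroup.orderOf_coe]; exact s7)
  obtain ⟨B, hB, -⟩ := SmallGroups.existsUnique_sylow_of_orderOf R hR (y := (⟨t, ht⟩ : ↥(cH z)))
    (by rw [← Subgroup.orderOf_coe]; exact t7)
  obtain ⟨h, hh⟩ := MulAction.exists_smul_eq ↥(cH z) A B
  refine ⟨h, h.2, seven_zpow t7 ?_ ?_⟩
  · have hm : h * ⟨s, hs⟩ * h⁻¹ ∈ (B : Subgroup ↥(cH z)) := by
      rw [← hh, Sylow.coe_subgroup_smul, hA]
      exact ⟨⟨s, hs⟩, mem_zpowers _, by simp⟩
    rw [hB] at hm
    obtain ⟨i, hi⟩ := mem_zpowers_iff.1 hm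
    exact mem_zpowers_iff.2 ⟨i, congrArg Subtype.val hi⟩
  · intro e
    rw [conj_eq_one_iff.1 e, orderOf_one] at s7
    omega

section Fixed

variable {s : G} (hs : s ∈ cC z P) (h7 : orderOf s = 7)
include hs h7

theorem pow_seven : (⟨s, hs⟩ : ↥(cC z P)) ^ 7 = 1 := Subtype.ext (by
  rw [Subgroup.coe_pow, ← h7, pow_orderOf_eq_one, OneMemClass.coe_one])

theorem π_ne : D.π ⟨s, hs⟩ ≠ 1 := fun h => by
  have := pow_six_seven (D.toJMod.ker_pow _ h) (pow_seven D hs h7)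
  rw [← Subgroup.orderOf_mk s hs, this, orderOf_one] at h7
  omega

theorem π_seven : orderOf (D.π ⟨s, hs⟩) = 7 :=
  orderOf_eq_prime (hp := ⟨by norm_num⟩) (by rw [← map_pow, pow_seven D hs h7, map_one]) (π_ne D hs h7)

theorem cE_fixed {e : G} (he : e ∈ cE z) (hc : Commute s e) : e = 1 ∨ e = z := by
  have := exists_mFacts.some.simple
  have h : (⟨s, hs⟩ : ↥(cC z P)) • mk ⟨e, he⟩ = mk ⟨e, he⟩ := by
    rw [smul_mk]; congr 1; apply Subtype.ext
    show s * e * s⁻¹ = e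
    rw [hc.eq, mul_inv_cancel_right]
  exact (mk_eq_zero D.hJ).1 (fix_seven D.toJMod exists_mFacts.some (pow_seven D hs h7) (π_ne D hs h7) h)

theorem mem_iff_π {c : ↥(cC z P)} {i : ℤ} :
    (c : G) * s * (c : G)⁻¹ = s ^ i ↔ D.π c * D.π ⟨s, hs⟩ * (D.π c)⁻¹ = D.π ⟨s, hs⟩ ^ i := by
  constructor
  · intro h
    have h' : c * ⟨s, hs⟩ * c⁻¹ = (⟨s, hs⟩ : ↥(cC z P)) ^ i := Subtype.ext (by
      rw [SubgroupClass.coe_zpow]; exact h)
    rw [← map_inv, ← map_mul, ← map_mul, h', map_zpow]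
  · intro h
    set σ : ↥(cC z P) := ⟨s, hs⟩ with hσ
    have hk : D.π ((σ ^ i)⁻¹ * (c * σ * c⁻¹)) = 1 := by
      rw [map_mul, map_inv, map_zpow, map_mul, map_mul, map_inv, h, inv_mul_cancel]
    have hcomm : Commute ((σ ^ i)⁻¹ * (c * σ * c⁻¹)) (σ ^ i) := D.toJMod.ker_comm _ hk _
    have h7' : ((σ ^ i)⁻¹ * (c * σ * c⁻¹)) ^ 7 = 1 := by
      have e1 : (σ ^ i * ((σ ^ i)⁻¹ * (c * σ * c⁻¹))) ^ 7 = 1 := by
        rw [mul_inv_cancel_left, conj_pow, hσ, pow_seven D hs h7, mul_one, mul_inv_cancel]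
      rwa [hcomm.symm.mul_pow, ← zpow_natCast (σ ^ i), ← zpow_mul, mul_comm i, zpow_mul, zpow_natCast, hσ,
        pow_seven D hs h7, one_zpow, one_mul] at e1
    have := inv_mul_eq_one.1 (pow_six_seven (D.toJMod.ker_pow _ hk) h7')
    rw [← SubgroupClass.coe_zpow (⟨s, hs⟩ : ↥(cC z P))]
    exact congrArg Subtype.val this.symm

theorem mem_cent_iff {c : ↥(cC z P)} :
    Commute (c : G) s ↔ D.π c ∈ centralizer ({D.π ⟨s, hs⟩} : Set M22t) := by
  rw [mem_centralizer_singleton_iff]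
  have := mem_iff_π D hs h7 (c := c) (i := 1)
  rw [zpow_one, zpow_one, mul_inv_eq_iff_eq_mul, mul_inv_eq_iff_eq_mul] at this
  exact this

theorem normal_iff {c : ↥(cC z P)} :
    (c : G) * s * (c : G)⁻¹ ∈ zpowers s ↔ D.π c ∈ normalizer (zpowers (D.π ⟨s, hs⟩) : Set M22t) := by
  have key : D.π c ∈ normalizer (zpowers (D.π ⟨s, hs⟩) : Set M22t) ↔
      D.π c * D.π ⟨s, hs⟩ * (D.π c)⁻¹ ∈ zpowers (D.π ⟨s, hs⟩) := by
    refine ⟨fun h => (mem_normalizer_iff.1 h _).1 (mem_zpowers _), fun h => mem_normalizer_iff.2 fun y => ?_⟩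
    have hne : D.π c * D.π ⟨s, hs⟩ * (D.π c)⁻¹ ≠ 1 := fun e => π_ne D hs h7 (conj_eq_one_iff.1 e)
    have hz := seven_zpow (π_seven D hs h7) h hne
    constructor
    · intro hy
      obtain ⟨i, rfl⟩ := mem_zpowers_iff.1 hy
      rw [← conj_zpow]; exact zpow_mem h i
    · intro hy
      rw [← hz] at hy
      obtain ⟨i, hi⟩ := mem_zpowers_iff.1 hy
      rw [conj_zpow] at hi
      exact mem_zpowers_iff.2 ⟨i, mul_left_cancel (mul_right_cancel hi)⟩
  rw [key, mem_zpowers_iff, mem_zpowers_iff]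
  exact ⟨fun ⟨i, hi⟩ => ⟨i, ((mem_iff_π D hs h7).1 hi.symm).symm⟩,
    fun ⟨i, hi⟩ => ⟨i, ((mem_iff_π D hs h7).2 hi.symm).symm⟩⟩

omit hs h7 in
theorem card_comap (A : Subgroup M22t) : Nat.card ↥(A.comap D.π) = 6 * Nat.card ↥A := by
  have h1 := (A.comap D.π).card_mul_index
  have h2 := A.card_mul_index
  rw [A.index_comap_of_surjective D.πsurj, D.card_C] at h1
  rw [m22_card] at h2
  have hpos : 0 < A.index := Nat.pos_of_ne_zero (by exact FiniteIndex.index_ne_zero)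
  exact Nat.eq_of_mul_eq_mul_right hpos (by rw [h1, mul_assoc, h2])

theorem card_CC : Nat.card ↥(cC z P ⊓ centralizer ({s} : Set G)) = 42 := by
  have h := card_comap D (centralizer ({D.π ⟨s, hs⟩} : Set M22t))
  rw [card_cent_seven m22_facts (π_seven D hs h7)] at h
  refine Eq.trans ?_ h
  exact Nat.card_congr
    { toFun := fun g => ⟨⟨g, g.2.1⟩, (mem_cent_iff D hs h7).1 (mem_centralizer_singleton_iff.1 g.2.2)⟩
      invFun := fun c => ⟨((c : ↥(cC z P)) : G),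
        ⟨(c : ↥(cC z P)).2, mem_centralizer_singleton_iff.2 ((mem_cent_iff D hs h7).2 c.2).eq⟩⟩
      left_inv := fun _ => rfl
      right_inv := fun _ => rfl }

theorem card_NC : Nat.card ↥(cC z P ⊓ normalizer (zpowers s : Set G)) = 126 := by
  have h := card_comap D (normalizer (zpowers (D.π ⟨s, hs⟩) : Set M22t))
  rw [card_norm_seven m22_facts (π_seven D hs h7)] at h
  refine Eq.trans ?_ h
  refine Nat.card_congr
    { toFun := fun g => ⟨⟨g, g.2.1⟩, (normal_iff D hs h7).1 ((mem_normalizer_iff.1 g.2.2 s).1 (mem_zpowers s))⟩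
      invFun := fun c => ⟨((c : ↥(cC z P)) : G), ⟨(c : ↥(cC z P)).2, ?_⟩⟩
      left_inv := fun _ => rfl
      right_inv := fun _ => rfl }
  have hm := (normal_iff D hs h7).2 c.2
  have hne : ((c : ↥(cC z P)) : G) * s * ((c : ↥(cC z P)) : G)⁻¹ ≠ 1 := fun e => by
    rw [conj_eq_one_iff.1 e, orderOf_one] at h7
    omega
  refine mem_normalizer_iff.2 fun y => ⟨fun hy => ?_, fun hy => ?_⟩
  · obtain ⟨i, rfl⟩ := mem_zpowers_iff.1 hy
    rw [← conj_zpow]; exact zpow_mem hm i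
  · rw [← seven_zpow h7 hm hne] at hy
    obtain ⟨i, hi⟩ := mem_zpowers_iff.1 hy
    rw [conj_zpow] at hi
    exact mem_zpowers_iff.2 ⟨i, mul_left_cancel (mul_right_cancel hi)⟩

theorem zpow_eq_of_π {i j : ℤ} (h : D.π ⟨s, hs⟩ ^ i = D.π ⟨s, hs⟩ ^ j) : s ^ i = s ^ j := by
  rw [zpow_eq_zpow_iff_modEq] at h ⊢
  rwa [π_seven D hs h7, ← h7] at h

/-- An inner element normalizing the subgroup of order seven. -/
theorem inner_norm {h : G} (hh : D.Inner14 h) (hn : h * s * h⁻¹ ∈ zpowers s) :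
    ∃ e c, (e = 1 ∨ e = z) ∧ c ∈ cC z P ∧ c * s * c⁻¹ ∈ zpowers s ∧ h = e * c := by
  obtain ⟨e, he, c, hc, rfl⟩ := hh
  obtain ⟨i, hi⟩ := mem_zpowers_iff.1 hn
  set σ : ↥(cC z P) := ⟨s, hs⟩ with hσ
  have hφ : D.φ ⟨e, cE_le z he⟩ = 1 := D.φ_cE he
  have h1 : MulAut.conj (D.π (⟨c, hc⟩ * σ * ⟨c, hc⟩⁻¹)) = MulAut.conj (D.π (σ ^ i)) := by
    rw [D.π_eq, D.π_eq, show (⟨((σ ^ i : ↥(cC z P)) : G), (σ ^ i : ↥(cC z P)).2.1⟩ : ↥(cH z)) =
      ⟨e, cE_le z he⟩ * ⟨((⟨c, hc⟩ * σ * ⟨c, hc⟩⁻¹ : ↥(cC z P)) : G), (⟨c, hc⟩ * σ * ⟨c, hc⟩⁻¹ : ↥(cC z P)).2.1⟩ *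
        ⟨e, cE_le z he⟩⁻¹ from Subtype.ext (by
          show ((σ ^ i : ↥(cC z P)) : G) = e * (c * s * c⁻¹) * e⁻¹
          rw [SubgroupClass.coe_zpow]
          show s ^ i = _
          rw [hi]; group), map_mul, map_mul, map_inv, hφ, one_mul, inv_one, mul_one]
  have h2 : D.π ⟨c, hc⟩ * D.π σ * (D.π ⟨c, hc⟩)⁻¹ = D.π σ ^ i := by
    have := m22_conj_injective h1
    rwa [map_mul, map_mul, map_inv, map_zpow] at this
  have h3 : c * s * c⁻¹ = s ^ i := (mem_iff_π D hs h7 (c := ⟨c, hc⟩)).2 h2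
  refine ⟨e, c, cE_fixed D hs h7 he ?_, hc, h3 ▸ zpow_mem (mem_zpowers s) i, rfl⟩
  have h4 : Commute e (s ^ i) := by
    have : e * s ^ i * e⁻¹ = s ^ i := by
      rw [← h3, show e * (c * s * c⁻¹) * e⁻¹ = e * c * s * (e * c)⁻¹ by group, ← hi, ← h3]
    exact mul_inv_eq_iff_eq_mul.1 this
  have hne : s ^ i ≠ 1 := fun e' => by
    rw [e', conj_eq_one_iff] at h3
    rw [h3, orderOf_one] at h7
    omega
  obtain ⟨j, hj⟩ := mem_zpowers_iff.1 ((seven_zpow h7 (zpow_mem (mem_zpowers s) i) hne).ge (mem_zpowers s))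
  exact hj ▸ (h4.zpow_right j).symm

theorem inner_cent {h : G} (hh : D.Inner14 h) (hc : Commute h s) : h ∈ cC z P := by
  obtain ⟨e, c, he, hcC, -, rfl⟩ := inner_norm D hs h7 hh (by
    rw [hc.eq, mul_inv_cancel_right]; exact mem_zpowers s)
  refine mul_mem ?_ hcC
  rcases he with rfl | rfl
  · exact one_mem _
  · exact D.z_mem_C

/-- The centralizer of `s` in the centralizer of `z`. -/
theorem card_CH : Nat.card ↥(cH z ⊓ centralizer ({s} : Set G)) = 42 ∨
    (Nat.card ↥(cH z ⊓ centralizer ({s} : Set G)) = 84 ∧ ∃ u ∈ cH z, Commute u s ∧ ¬ D.Inner14 u) := by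
  have h42 := card_CC D hs h7
  set A := cC z P ⊓ centralizer ({s} : Set G)
  set B := cH z ⊓ centralizer ({s} : Set G)
  have hAB : A ≤ B := fun x hx => ⟨hx.1.1, hx.2⟩
  have hin : ∀ x ∈ B, (D.Inner14 x ↔ x ∈ A) := fun x hx =>
    ⟨fun h => ⟨inner_cent D hs h7 h (mem_centralizer_singleton_iff.1 hx.2), hx.2⟩, fun h => D.inner14_cC h.1⟩
  by_cases hall : ∀ u ∈ B, D.Inner14 u
  · exact Or.inl (by rw [show B = A from le_antisymm (fun x hx => (hin x hx).1 (hall x hx)) hAB, h42])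
  push Not at hall
  obtain ⟨u, hu, hun⟩ := hall
  refine Or.inr ⟨?_, u, hu.1, mem_centralizer_singleton_iff.1 hu.2, hun⟩
  have hidx : (A.subgroupOf B).index = 2 := by
    rw [Subgroup.index_eq_two_iff']
    refine ⟨(⟨u, hu⟩ : ↥B)⁻¹, fun b => ?_⟩
    by_cases hb : D.Inner14 (b : G)
    · refine Or.inr ⟨mem_subgroupOf.2 ((hin _ b.2).1 hb), fun h => hun ?_⟩
      have h' := mem_subgroupOf.1 h
      have := mul_mem ((hin _ b.2).1 hb) (inv_mem h')
      simp only [Subgroup.coe_mul, Subgroup.coe_inv, mul_inv_rev, inv_inv, mul_inv_cancel_left] at this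
      exact D.inner14_cC this.1
    · refine Or.inl ⟨mem_subgroupOf.2 ((hin _ ((⟨u, hu⟩ : ↥B)⁻¹ * b).2).1 ?_), fun h => hb (D.inner14_cC h.1)⟩
      exact inner14_of_not_not D (inv_mem hu.1) b.2.1 (fun h => hun (inv_inv u ▸ D.inner14_inv h)) hb
  have h := (A.subgroupOf B).card_mul_index
  rw [hidx, Nat.card_congr (subgroupOfEquivOfLe hAB).toEquiv, h42] at h
  omega

/-- The order of the normalizer. -/
theorem card_normalizer (hK : Nat.card ↥(centralizer ({s} : Set G)) = 840)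
    (h84 : Nat.card ↥(cH z ⊓ centralizer ({s} : Set G)) = 84)
    (hfus : ∀ g : G, Commute (g * z * g⁻¹) s → ∃ k, Commute k s ∧ k * (g * z * g⁻¹) * k⁻¹ = z) :
    Nat.card ↥(normalizer (zpowers s : Set G)) = 2520 := by
  rcases card_CH D hs h7 with h | ⟨-, u, huH, hus, hun⟩
  · omega
  set N := normalizer (zpowers s : Set G)
  set K := centralizer ({s} : Set G)
  set A := cC z P ⊓ N
  have hKN : K ≤ N := fun k hk => mem_normalizer_iff.2 fun y => by
    have hc : Commute k s := mem_centralizer_singleton_iff.1 hk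
    constructor
    · intro hy
      obtain ⟨i, rfl⟩ := mem_zpowers_iff.1 hy
      rw [(hc.zpow_right i).eq, mul_inv_cancel_right]; exact hy
    · intro hy
      obtain ⟨i, hi⟩ := mem_zpowers_iff.1 hy
      have : y = k⁻¹ * s ^ i * k := by rw [hi]; group
      rw [this, mul_assoc, ← (hc.zpow_right i).eq, inv_mul_cancel_left]
      exact zpow_mem (mem_zpowers s) i
  have hnorm : ∀ g ∈ N, ∀ k ∈ K, g * k * g⁻¹ ∈ K := fun g hg k hk => by
    have hc : Commute k s := mem_centralizer_singleton_iff.1 hk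
    obtain ⟨i, hi⟩ := mem_zpowers_iff.1 ((mem_normalizer_iff.1 (inv_mem hg) s).1 (mem_zpowers s))
    rw [inv_inv] at hi
    refine mem_centralizer_singleton_iff.2 ?_
    have h1 := (hc.zpow_right i).eq
    rw [hi] at h1
    calc g * k * g⁻¹ * s = g * (k * (g⁻¹ * s * g)) * g⁻¹ := by group
      _ = g * (g⁻¹ * s * g * k) * g⁻¹ := by rw [h1]
      _ = s * (g * k * g⁻¹) := by group
  have : (K.subgroupOf N).Normal := ⟨fun k hk g => mem_subgroupOf.2 (hnorm g g.2 k (mem_subgroupOf.1 hk))⟩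
  let f : ↥A →* ↥N ⧸ K.subgroupOf N := (QuotientGroup.mk' _).comp (inclusion inf_le_right)
  have hsurj : Function.Surjective f := by
    intro q
    obtain ⟨⟨g, hg⟩, rfl⟩ := QuotientGroup.mk'_surjective _ q
    have hgs : g * s * g⁻¹ ∈ zpowers s := (mem_normalizer_iff.1 hg s).1 (mem_zpowers s)
    have hne : g * s * g⁻¹ ≠ 1 := fun e => by
      rw [conj_eq_one_iff.1 e, orderOf_one] at h7; omega
    obtain ⟨j, hj⟩ := mem_zpowers_iff.1 ((seven_zpow h7 hgs hne).ge (mem_zpowers s))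
    have hzs : Commute z s := D.comm_z ⟨s, hs⟩
    have hc : Commute (g * z * g⁻¹) s := by
      have h1 : Commute (g * z * g⁻¹) (g * s * g⁻¹) := hzs.map (MulAut.conj g)
      exact hj ▸ h1.zpow_right j
    obtain ⟨k, hk, hkz⟩ := hfus g hc
    have hkg : k * g ∈ cH z := mem_centralizer_singleton_iff.2 (by
      rw [show k * (g * z * g⁻¹) * k⁻¹ = k * g * z * (k * g)⁻¹ by group, mul_inv_eq_iff_eq_mul] at hkz
      exact hkz)
    have hkK : k ∈ K := mem_centralizer_singleton_iff.2 hk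
    obtain ⟨k', hk'K, hin⟩ : ∃ k' ∈ K, D.Inner14 (k' * g) := by
      by_cases h : D.Inner14 (k * g)
      · exact ⟨k, hkK, h⟩
      · exact ⟨u * k, mul_mem (mem_centralizer_singleton_iff.2 hus) hkK, by
          rw [mul_assoc]; exact inner14_of_not_not D huH hkg hun h⟩
    have hk'N : k' * g ∈ N := mul_mem (hKN hk'K) hg
    obtain ⟨e, c, he, hcC, -, heq⟩ := inner_norm D hs h7 hin ((mem_normalizer_iff.1 hk'N s).1 (mem_zpowers s))
    have heK : e ∈ K := by
      rcases he with rfl | rfl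
      · exact one_mem _
      · exact mem_centralizer_singleton_iff.2 hzs
    have hcN : c ∈ N := by
      rw [show c = e⁻¹ * (k' * g) by rw [heq, inv_mul_cancel_left]]
      exact mul_mem (inv_mem (hKN heK)) hk'N
    refine ⟨⟨c, hcC, hcN⟩, QuotientGroup.eq.2 (mem_subgroupOf.2 ?_)⟩
    show c⁻¹ * g ∈ K
    have : c⁻¹ * g = c⁻¹ * (k'⁻¹ * e) * c := by
      rw [show g = k'⁻¹ * (e * c) by rw [← heq, inv_mul_cancel_left]]; group
    rw [this]
    have := hnorm _ (inv_mem hcN) _ (mul_mem (inv_mem hk'K) heK)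
    rwa [inv_inv] at this
  have h1 := f.ker.card_mul_index
  rw [Subgroup.index_ker, MonoidHom.range_eq_top.2 hsurj, Subgroup.card_top, card_NC D hs h7] at h1
  have hker : Nat.card ↥f.ker = 42 := by
    rw [← card_CC D hs h7]
    exact Nat.card_congr
      { toFun := fun x => ⟨((x : ↥A) : G), (x : ↥A).2.1, mem_subgroupOf.1
          ((QuotientGroup.eq_one_iff (inclusion (inf_le_right : A ≤ N) (x : ↥A))).1 x.2)⟩
        invFun := fun x => ⟨⟨x, x.2.1, hKN x.2.2⟩, (QuotientGroup.eq_one_iff _).2 (mem_subgroupOf.2 x.2.2)⟩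
        left_inv := fun _ => rfl
        right_inv := fun _ => rfl }
  rw [hker] at h1
  have h2 := (K.subgroupOf N).card_mul_index
  rw [Nat.card_congr (subgroupOfEquivOfLe hKN).toEquiv, hK,
    show (K.subgroupOf N).index = Nat.card (↥N ⧸ K.subgroupOf N) from rfl] at h2
  omega

end Fixed

end Cfsg.Agent.Lib.J4Seven4
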