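import Cfsg.Agent.Lib.J4Type19.Eigen
import Cfsg.Agent.Lib.J4Type19.Invol

/-!
# An element of order seven fixes no non-zero vector
-/

set_option autoImplicit false
set_option linter.unusedSectionVars false

namespace Cfsg.Agent.Lib.J4Seven4

open Cfsg.Agent.Lib.J4Type19

variable {C V M : Type*} [Group C] [AddCommGroup V] [DistribMulAction C V] [Group M]

/-- `v ↦ v + c v + c³ v`. -/
def cubicOne (c : C) : V →+ V where
  toFun v := v + c • v + c ^ 3 • v
  map_zero' := by simp
  map_add' u v := by simp only [smul_add]; abel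

/-- `v ↦ v + c² v + c³ v`. -/
def cubicTwo (c : C) : V →+ V where
  toFun v := v + c ^ 2 • v + c ^ 3 • v
  map_zero' := by simp
  map_add' u v := by simp only [smul_add]; abel

variable (J : JMod C V M) {c : C} (h7 : c ^ 7 = 1)
include J h7

theorem pow_smul_mod (k : ℕ) (v : V) : c ^ k • v = c ^ (k % 7) • v := by
  conv_lhs => rw [← Nat.mod_add_div k 7, pow_add, pow_mul, h7, one_pow, mul_one]

theorem cancel_twice (a b x d e f g : V) : (a + a) + (b + b) + (x + x) + (d + d) + (e + e) + (f + f) + g = g := by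
  simp only [J.two, zero_add]

theorem all_fixed_of_trivial (h1 : (cubicOne c).ker = (⊥ : AddSubgroup V)) (h2 : (cubicTwo c).ker = (⊥ : AddSubgroup V))
    (v : V) : c • v = v := by
  have hc : ∀ (i : ℕ) (w : V), c • c ^ i • w = c ^ (i + 1) • w := fun i w => by rw [← mul_smul, ← pow_succ']
  have hp : ∀ (i j : ℕ) (w : V), c ^ i • c ^ j • w = c ^ (i + j) • w := fun i j w => by rw [← mul_smul, ← pow_add]
  have m := fun k => pow_smul_mod J h7 k v
  have e1 : v + c • v + c ^ 2 • v + c ^ 4 • v = 0 := by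
    refine (AddSubgroup.eq_bot_iff_forall _).1 h1 _ ?_
    rw [AddMonoidHom.mem_ker]
    show _ + c • _ + c ^ 3 • _ = (0 : V)
    simp only [smul_add, hc, hp]
    have e : c • c • v = c ^ 2 • v := by rw [← mul_smul, pow_two]
    have e4 : c ^ 3 • c • v = c ^ 4 • v := by rw [← mul_smul, ← pow_succ]
    rw [e, e4, m (3 + 4)]
    norm_num
    calc _ = (v + v) + (c • v + c • v) + (c ^ 2 • v + c ^ 2 • v) + (c ^ 3 • v + c ^ 3 • v) +
          (c ^ 4 • v + c ^ 4 • v) + (c ^ 5 • v + c ^ 5 • v) + 0 := by abel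
      _ = 0 := cancel_twice J h7 _ _ _ _ _ _ _
  have e2 : v + c ^ 3 • v + c ^ 5 • v + c ^ 6 • v = 0 := by
    refine (AddSubgroup.eq_bot_iff_forall _).1 h2 _ ?_
    rw [AddMonoidHom.mem_ker]
    show _ + c ^ 2 • _ + c ^ 3 • _ = (0 : V)
    simp only [smul_add, hp]
    rw [m (2 + 5), m (2 + 6), m (3 + 6)]
    norm_num
    calc _ = (v + v) + (c • v + c • v) + (c ^ 2 • v + c ^ 2 • v) + (c ^ 3 • v + c ^ 3 • v) +
          (c ^ 5 • v + c ^ 5 • v) + (c ^ 6 • v + c ^ 6 • v) + 0 := by abel
      _ = 0 := cancel_twice J h7 _ _ _ _ _ _ _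
  have e0 : v = v + c • v + c ^ 2 • v + c ^ 3 • v + c ^ 4 • v + c ^ 5 • v + c ^ 6 • v := by
    calc v = (v + c • v + c ^ 2 • v + c ^ 4 • v) + (v + c ^ 3 • v + c ^ 5 • v + c ^ 6 • v) +
          (v + c • v + c ^ 2 • v + c ^ 3 • v + c ^ 4 • v + c ^ 5 • v + c ^ 6 • v) := by
          symm
          calc _ = (v + v) + (c • v + c • v) + (c ^ 2 • v + c ^ 2 • v) + (c ^ 3 • v + c ^ 3 • v) +
                (c ^ 4 • v + c ^ 4 • v) + (c ^ 5 • v + c ^ 5 • v) + (v + (c ^ 6 • v + c ^ 6 • v)) := by abel
            _ = _ := by rw [cancel_twice J h7, J.two, add_zero]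
      _ = _ := by rw [e1, e2, zero_add, zero_add]
  rw [e0]
  simp only [smul_add, hc]
  rw [← mul_smul, ← pow_two, m (6 + 1)]
  norm_num
  abel

omit h7 in
theorem not_all_fixed {F : MFacts M} [IsSimpleGroup M] {c : C} (hc : J.π c ≠ 1) : ¬ ∀ v : V, c • v = v := by
  intro htriv
  obtain ⟨L⟩ := J.exists_lifts F
  let K : Subgroup C :=
    { carrier := {g | ∀ v : V, g • v = v}
      one_mem' := fun v => one_smul C v
      mul_mem' := fun {a b} ha hb v => by rw [mul_smul, hb v, ha v]
      inv_mem' := fun {a} ha v => by conv_lhs => rw [← ha v, inv_smul_smul] }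
  have hK : K.Normal := ⟨fun a ha g v => by rw [mul_smul, mul_smul, ha, smul_inv_smul]⟩
  have htop : K.map J.π = ⊤ :=
    ((hK.map J.π J.surj).eq_bot_or_eq_top).resolve_left fun h =>
      hc (Subgroup.mem_bot.1 (h ▸ ⟨c, htriv, rfl⟩))
  obtain ⟨k, hk, hka⟩ := htop.ge (Subgroup.mem_top (J.π L.a))
  have hm : J.π (k⁻¹ * L.a) = 1 := by rw [map_mul, map_inv, hka, inv_mul_cancel]
  obtain ⟨j, hj⟩ := J.ker_act _ hm
  have ha : ∀ v : V, L.a • v = J.ω ^ j • v := fun v => by
    conv_lhs => rw [← mul_inv_cancel_left k L.a, mul_smul, hj v]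
    exact hk _
  have h16 := J.card_eig L 0 (by norm_num)
  rcases Nat.eq_zero_or_pos (j % 3) with hj0 | hj0
  · have : J.eig L.a 0 = ⊤ := eq_top_iff.2 fun v _ => by
      show L.a • v = J.ω ^ 0 • v
      rw [ha v, J.ωpow_congr (n := j) (m := 0) (by omega)]
    rw [this, AddSubgroup.card_top, J.cardV] at h16
    norm_num at h16
  · have : J.eig L.a 0 = ⊥ := eq_bot_iff.2 fun v (hv : L.a • v = J.ω ^ 0 • v) => by
      rw [ha v, pow_zero, one_smul] at hv
      refine AddSubgroup.mem_bot.2 (J.ωfix v ?_)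
      rcases (by omega : j % 3 = 1 ∨ j % 3 = 2) with e | e <;> rw [J.ωpow_congr (n := j) (m := j % 3) (by omega), e] at hv
      · rwa [pow_one] at hv
      · conv_lhs => rw [← hv, pow_two, mul_smul]
        exact J.ω3_smul v
    rw [this, AddSubgroup.card_bot] at h16
    norm_num at h16

theorem fix_of_one_ne (hT : (cubicOne c).ker ≠ (⊥ : AddSubgroup V)) {f : V} (hf : c • f = f) : f = 0 := by
  classical
  have := J.finiteV
  set T : AddSubgroup V := (cubicOne c).ker with hTdef
  have memT : ∀ {v : V}, v ∈ T → c ^ 3 • v = v + c • v := fun {v} hv => by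
    have h : v + c • v + c ^ 3 • v = 0 := hv
    rw [add_eq_zero_iff_eq_neg, J.neg_eq] at h
    exact h.symm
  have hcT : ∀ v ∈ T, c • v ∈ T := fun v (hv : v + c • v + c ^ 3 • v = 0) => by
    show c • v + c • c • v + c ^ 3 • c • v = 0
    have hcc : c ^ 3 • c • v = c • c ^ 3 • v := by rw [← mul_smul, ← mul_smul, ← pow_succ, ← pow_succ']
    rw [hcc, ← smul_add, ← smul_add, hv, smul_zero]
  have hωT : ∀ v ∈ T, J.ω • v ∈ T := fun v (hv : v + c • v + c ^ 3 • v = 0) => by
    show J.ω • v + c • J.ω • v + c ^ 3 • J.ω • v = 0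
    rw [← J.ω_comm, ← J.ω_comm, ← smul_add, ← smul_add, hv, smul_zero]
  have hfixT : ∀ v ∈ T, c • v = v → v = 0 := fun v hv h => by
    have h' : v + c • v + c ^ 3 • v = 0 := hv
    have h3 : c ^ 3 • v = v := by simp only [pow_succ, pow_zero, one_mul, mul_smul, h]
    rwa [h, h3, J.two, zero_add] at h'
  have hinj : Function.Injective (fun v : ↥T => (⟨c • (v : V), hcT v v.2⟩ : ↥T)) := fun a b e =>
    Subtype.ext (smul_left_cancel c (congrArg Subtype.val e))
  have := Fintype.ofFinite ↥T
  -- at least 64 vectors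
  have hbig : 64 ≤ Nat.card ↥T := by
    obtain ⟨e, -, he⟩ := J.card_pow T hωT
    have : Fact (Nat.Prime 7) := ⟨by norm_num⟩
    let σ : Function.End ↥T := fun v => ⟨c • (v : V), hcT v v.2⟩
    have hσk : ∀ (k : ℕ) (v : ↥T), ((σ ^ k) v : V) = c ^ k • (v : V) := by
      intro k
      induction k with
      | zero => intro v; simp; rfl
      | succ k ih =>
        intro v
        rw [pow_succ' σ k, pow_succ' c k, mul_smul, ← ih v]
        rfl
    have h := Equiv.Perm.card_fixedPoints_modEq (f := σ) (p := 7) (n := 1) (by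
      funext v
      apply Subtype.ext
      rw [hσk]
      simp [h7]; rfl)
    have hfix : Fintype.card (Function.fixedPoints σ) = 1 := by
      rw [Fintype.card_eq_one_iff]
      exact ⟨⟨0, Subtype.ext (smul_zero c)⟩, fun v => Subtype.ext (Subtype.ext (hfixT _ v.1.2 (congrArg Subtype.val v.2)))⟩
    rw [hfix, ← Nat.card_eq_fintype_card, he] at h
    have he0 : e ≠ 0 := fun h0 => hT (AddSubgroup.eq_bot_of_card_eq _ (by rw [he, h0, pow_zero]))
    rw [he]
    rcases (by omega : e = 1 ∨ e = 2 ∨ 3 ≤ e) with rfl | rfl | h3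
    · exact absurd h (by decide)
    · exact absurd h (by decide)
    · exact le_trans (by norm_num) (Nat.pow_le_pow_right (by norm_num : 0 < 4) h3)
  -- isotropic
  have hiso : ∀ x ∈ T, ∀ y ∈ T, J.β x y = 0 := by
    intro x hx y hy
    have key : ∀ a ∈ T, ∀ b ∈ T, J.β a b + J.β a (c • b) + J.β (c • a) b = 0 := by
      intro a ha b hb
      have h := J.inv (c ^ 3) a b
      rw [memT ha, memT hb] at h
      simp only [map_add, AddMonoidHom.add_apply, J.inv] at h
      generalize J.β a b = p at h ⊢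
      generalize J.β a (c • b) = q at h ⊢
      generalize J.β (c • a) b = r at h ⊢
      revert p q r
      decide
    have hinj' : Function.Injective (fun v : ↥T =>
        (⟨(v : V) + c • (v : V) + c ^ 6 • (v : V), add_mem (add_mem v.2 (hcT _ v.2)) (by
          have hk : ∀ k : ℕ, c ^ k • (v : V) ∈ T := by
            intro k
            induction k with
            | zero => simpa using v.2
            | succ k ih => rw [pow_succ', mul_smul]; exact hcT _ ih
          exact hk 6)⟩ : ↥T)) := by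
      intro a b e
      have e' : ((a : V) - b) + c • ((a : V) - b) + c ^ 6 • ((a : V) - b) = 0 := by
        have e1 : (a : V) + c • (a : V) + c ^ 6 • (a : V) = (b : V) + c • (b : V) + c ^ 6 • (b : V) :=
          congrArg Subtype.val e
        rw [smul_sub, smul_sub, show (a : V) - b + (c • (a : V) - c • (b : V)) + (c ^ 6 • (a : V) - c ^ 6 • (b : V)) =
          ((a : V) + c • (a : V) + c ^ 6 • (a : V)) - ((b : V) + c • (b : V) + c ^ 6 • (b : V)) by abel, e1, sub_self]
      have hd : (a : V) - b ∈ T := sub_mem a.2 b.2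
      obtain ⟨u, hu⟩ : ∃ u, u = (a : V) - b := ⟨_, rfl⟩
      rw [← hu] at e' hd
      have h2 := congrArg (fun w => c • w) e'
      simp only [smul_add, smul_zero] at h2
      rw [← mul_smul c (c ^ 6), ← pow_succ', h7, one_smul] at h2
      have hu0 : u = 0 := by
        have h3 := memT hd
        have h4 : c • c • u = u + c • u := by
          rw [← J.neg_eq (u + c • u)]
          exact eq_neg_of_add_eq_zero_left (by rw [← h2]; abel)
        have h5 : c ^ 3 • u = c • (u + c • u) := by rw [← h4]; simp [pow_succ, mul_smul]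
        rw [h3, smul_add, h4, add_left_comm, J.two, add_zero, add_eq_left, smul_eq_zero_iff_eq] at h5
        exact h5
      exact Subtype.ext (sub_eq_zero.1 (hu ▸ hu0))
    obtain ⟨⟨y', hy'⟩, hye⟩ := (Finite.injective_iff_surjective.1 hinj') ⟨y, hy⟩
    rw [← show y' + c • y' + c ^ 6 • y' = y from congrArg Subtype.val hye, map_add, map_add]
    have h6 : J.β (c • x) y' = J.β x (c ^ 6 • y') := by
      rw [← J.inv (c ^ 6) (c • x) y', ← mul_smul, ← pow_succ, h7, one_smul]
    rw [← h6]
    exact key x hx y' hy'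
  -- orthogonal to the fixed vectors
  have hperp : ∀ x ∈ T, ∀ g : V, c • g = g → J.β x g = 0 := by
    intro x hx g hg
    have hinj' : Function.Injective (fun v : ↥T => (⟨(v : V) + c • (v : V), add_mem v.2 (hcT _ v.2)⟩ : ↥T)) := by
      intro a b e
      have e1 : (a : V) + c • (a : V) = (b : V) + c • (b : V) := congrArg Subtype.val e
      refine Subtype.ext (sub_eq_zero.1 (hfixT _ (sub_mem a.2 b.2) ?_))
      rw [smul_sub]
      calc c • (a : V) - c • (b : V) = ((a : V) + c • (a : V)) - ((b : V) + c • (b : V)) - ((a : V) - b) := by abel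
        _ = -((a : V) - b) := by rw [e1]; abel
        _ = _ := J.neg_eq _
    obtain ⟨⟨x', hx'⟩, hxe⟩ := (Finite.injective_iff_surjective.1 hinj') ⟨x, hx⟩
    rw [← show x' + c • x' = x from congrArg Subtype.val hxe, map_add, AddMonoidHom.add_apply]
    have h := J.inv c x' g
    rw [hg] at h
    rw [h]
    generalize J.β x' g = p
    revert p; decide
  let S : AddSubgroup V := T ⊔ fixElt c
  have hTS : T ≤ perpOf J.β S := fun x hx s hs => by
    obtain ⟨a, ha, b, hb, rfl⟩ := AddSubgroup.mem_sup.1 hs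
    rw [map_add, hiso x hx a ha, hperp x hx b hb, add_zero]
  have hle : T ≤ S := le_sup_left
  have h1 := Nat.card_le_card_of_injective (AddSubgroup.inclusion hTS) (AddSubgroup.inclusion_injective hTS)
  have h2 := Nat.card_le_card_of_injective (AddSubgroup.inclusion hle) (AddSubgroup.inclusion_injective hle)
  have hprod := J.perp S
  have h3 : Nat.card ↥S * Nat.card ↥T ≤ 4096 := by
    calc Nat.card ↥S * Nat.card ↥T ≤ Nat.card ↥S * Nat.card ↥(perpOf J.β S) := Nat.mul_le_mul_left _ h1
      _ = 4096 := by rw [hprod]; norm_num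
  have h4 : Nat.card ↥S ≤ Nat.card ↥T := by
    by_contra hlt
    have := Nat.mul_le_mul (show 65 ≤ Nat.card ↥S by omega) hbig
    omega
  have hST : T = S := AddSubgroup.eq_of_le_of_card_ge hle h4
  exact hfixT f (hST ▸ AddSubgroup.mem_sup_right (show f ∈ fixElt c from hf)) hf

omit h7 in
/-- An element of order seven outside the kernel fixes only zero. -/
theorem fix_seven (F : MFacts M) [IsSimpleGroup M] {c : C} (h7 : c ^ 7 = 1) (hc : J.π c ≠ 1) {f : V}
    (hf : c • f = f) : f = 0 := by
  by_cases h1 : (cubicOne c).ker = (⊥ : AddSubgroup V)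
  · by_cases h2 : (cubicTwo c).ker = (⊥ : AddSubgroup V)
    · exact absurd (all_fixed_of_trivial J h7 h1 h2) (not_all_fixed J (F := F) hc)
    · have h7' : (c ^ 6) ^ 7 = 1 := by rw [← pow_mul, mul_comm, pow_mul, h7, one_pow]
      refine fix_of_one_ne J h7' (fun h => h2 ?_) ?_
      · rw [eq_bot_iff]
        intro v (hv : v + c ^ 2 • v + c ^ 3 • v = 0)
        refine AddSubgroup.mem_bot.2 ((AddSubgroup.eq_bot_iff_forall _).1 h v ?_)
        show v + c ^ 6 • v + (c ^ 6) ^ 3 • v = 0
        rw [← pow_mul, pow_smul_mod J h7 (6 * 3)]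
        norm_num
        have := congrArg (fun w => c ^ 4 • w) hv
        simp only [smul_add, smul_zero, ← mul_smul, ← pow_add] at this
        rw [pow_smul_mod J h7 (4 + 3)] at this
        norm_num at this
        rw [← this]; abel
      · simp only [pow_succ, pow_zero, one_mul, mul_smul, hf]
  · exact fix_of_one_ne J h7 h1 hf

end Cfsg.Agent.Lib.J4Seven4
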