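import Cfsg.Agent.Lib.Blocks.M24.Classes
import Cfsg.Agent.Lib.Fusion.Mathieu.Identify

/-!
# An element of order seven in M24 and its centralizer
-/

set_option autoImplicit false

namespace Cfsg.Agent.Lib.J4Seven4

open Cfsg.Agent.Lib.Compute Cfsg.Agent.Lib.Compute.Mathieu Cfsg.Agent.Lib.Blocks.M24 Subgroup

/-- What is used about an element of order seven. -/
structure SevenData (M : Type*) [Group M] : Type _ where
  s : M
  d : M
  τ : M
  card : Nat.card M = 244823040
  s7 : orderOf s = 7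
  d3 : orderOf d = 3
  τ2 : orderOf τ = 2
  sd : Commute s d
  sτ : Commute s τ
  inv : τ * d * τ⁻¹ = d⁻¹
  card_cent : Nat.card ↥(centralizer ({s} : Set M)) = 42

theorem el7_gens_ne :
    (!Nat.beq (mulP 8 24 (el7CentGens.getD 0 (0, 0)).1 (el7CentGens.getD 1 (0, 0)).1)
      (mulP 8 24 (el7CentGens.getD 1 (0, 0)).1 (el7CentGens.getD 0 (0, 0)).1)) = true := by decide +kernel

theorem el7_gens_length : el7CentGens.length = 2 := by decide +kernel

theorem exists_noncomm : ∃ x : m24G, orderOf x = 7 ∧ Nat.card (centralizer ({x} : Set m24G)) = 42 ∧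
    ∃ a b : m24G, Commute x a ∧ Commute x b ∧ ¬ Commute a b := by
  obtain ⟨x, hx, -, h7, -, hc⟩ := exists_element (by norm_num) el7_ok
  have h := el7_ok
  simp only [elCheck, Bool.and_eq_true, Bool.not_eq_true', Nat.ble_eq] at h
  obtain ⟨⟨⟨⟨⟨⟨⟨hp, -⟩, -⟩, hcomm⟩, -⟩, -⟩, -⟩, -⟩ := h
  have hp' := List.all_eq_true.1 hp
  have hl := el7_gens_length
  have hmem : ∀ i < 2, el7CentGens.getD i (0, 0) ∈ el7CentGens := fun i hi => by
    rw [← List.getElem_eq_getD (h := by omega)]
    exact List.getElem_mem _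
  obtain ⟨a, ha, -⟩ := g_lift (hp' _ (List.mem_cons_of_mem _ (List.mem_cons_of_mem _ (hmem 0 (by norm_num)))))
  obtain ⟨b, hb, -⟩ := g_lift (hp' _ (List.mem_cons_of_mem _ (List.mem_cons_of_mem _ (hmem 1 (by norm_num)))))
  have hk : ∀ (i : ℕ), i < 2 → ∀ c : m24G, gEnc c = (el7CentGens.getD i (0, 0)).1 → Commute x c := by
    intro i hi c hc
    apply gEnc_inj
    rw [gEnc_mul, gEnc_mul, hx, hc]
    exact (Nat.eq_of_beq_eq_true (List.all_eq_true.1 hcomm _ (hmem i hi))).symm
  refine ⟨x, h7, hc, a, b, hk 0 (by norm_num) a ha, hk 1 (by norm_num) b hb, fun hab => ?_⟩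
  have hne := el7_gens_ne
  have he := congrArg gEnc hab.eq
  rw [gEnc_mul, gEnc_mul, ha, hb] at he
  rw [he] at hne
  simp at hne

theorem exists_seven_of_noncomm {M : Type*} [Group M] (hM : Nat.card M = 244823040) {x : M} (hx : orderOf x = 7)
    (hc : Nat.card ↥(centralizer ({x} : Set M)) = 42) {a b : M} (ha : Commute x a) (hb : Commute x b)
    (hab : ¬ Commute a b) : Nonempty (SevenData M) := by
  classical
  set C := centralizer ({x} : Set M) with hCdef
  have : Finite ↥C := Nat.finite_of_card_ne_zero (by rw [hc]; norm_num)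
  have : Fact (Nat.Prime 3) := ⟨Nat.prime_three⟩
  obtain ⟨d, hd⟩ := exists_prime_orderOf_dvd_card' (G := ↥C) 3 (by rw [hc]; norm_num)
  have : Fact (Nat.Prime 2) := ⟨Nat.prime_two⟩
  obtain ⟨τ, hτ⟩ := exists_prime_orderOf_dvd_card' (G := ↥C) 2 (by rw [hc]; norm_num)
  have hxd : Commute x (d : M) := (mem_centralizer_singleton_iff.1 d.2).symm
  have hxτ : Commute x (τ : M) := (mem_centralizer_singleton_iff.1 τ.2).symm
  -- the subgroup of order three is the only one
  let S : Sylow 3 ↥C := Sylow.ofCard (zpowers d) (by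
    rw [Nat.card_zpowers, hd, hc, show (42 : ℕ) = 3 ^ 1 * 14 by norm_num,
      Nat.factorization_mul (by norm_num) (by norm_num), Nat.Prime.factorization_pow Nat.prime_three]
    simp [Nat.factorization_eq_zero_of_not_dvd (by norm_num : ¬ 3 ∣ 14)])
  have hxC : x ∈ C := mem_centralizer_singleton_iff.2 rfl
  have hone : Nat.card (Sylow 3 ↥C) = 1 := by
    have h1 : Nat.card (Sylow 3 ↥C) ∣ 14 := by
      have h := S.card_dvd_index
      have hi := (S : Subgroup ↥C).card_mul_index
      rw [show ((S : Subgroup ↥C)) = zpowers d from rfl] at hi h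
      rw [Nat.card_zpowers, hd, hc] at hi
      rwa [show (zpowers d).index = 14 by omega] at h
    have h2 := card_sylow_modEq_one 3 ↥C
    have h7n : ¬ 7 ∣ Nat.card (Sylow 3 ↥C) := by
      intro h7
      rw [S.card_eq_index_normalizer] at h7
      have hxn : (⟨x, hxC⟩ : ↥C) ∈ normalizer ((S : Subgroup ↥C) : Set ↥C) :=
        mem_normalizer_iff.2 fun y => by
          rw [show (⟨x, hxC⟩ : ↥C) * y * ⟨x, hxC⟩⁻¹ = y from Subtype.ext (by
            show x * (y : M) * x⁻¹ = y
            rw [← mem_centralizer_singleton_iff.1 y.2, mul_inv_cancel_right])]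
      have h := Subgroup.orderOf_dvd_natCard _ hxn
      rw [← Subgroup.orderOf_coe] at h
      have hi := (normalizer ((S : Subgroup ↥C) : Set ↥C)).card_mul_index
      rw [hc] at hi
      have h' : 7 ∣ Nat.card ↥(normalizer ((S : Subgroup ↥C) : Set ↥C)) := by
        have e : ((⟨x, hxC⟩ : ↥C) : M) = x := rfl
        rw [e, hx] at h
        exact h
      have := (Nat.mul_dvd_mul h' h7).trans (dvd_of_eq hi)
      norm_num at this
    generalize Nat.card (Sylow 3 ↥C) = n at h1 h2 h7n
    have := Nat.le_of_dvd (by norm_num) h1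
    rw [Nat.ModEq] at h2
    interval_cases n <;> omega
  have hn : (zpowers d).Normal := by
    have : Subsingleton (Sylow 3 ↥C) := (Nat.card_eq_one_iff_unique.1 hone).1
    exact S.normal_of_subsingleton
  obtain hm := hn.conj_mem d (mem_zpowers d) τ
  have hcase : τ * d * τ⁻¹ = d ∨ τ * d * τ⁻¹ = d⁻¹ := by
    obtain ⟨i, hi : d ^ i = τ * d * τ⁻¹⟩ := mem_zpowers_iff.1 hm
    rw [← zpow_mod_orderOf, hd] at hi
    have h0 := Int.emod_nonneg i (by norm_num : ((3 : ℕ) : ℤ) ≠ 0)
    have h3 := Int.emod_lt_of_pos i (by norm_num : (0 : ℤ) < ((3 : ℕ) : ℤ))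
    rw [← hi]
    rcases (by push_cast at h0 h3 ⊢; omega : i % ((3 : ℕ) : ℤ) = 0 ∨ i % ((3 : ℕ) : ℤ) = 1 ∨ i % ((3 : ℕ) : ℤ) = 2) with
      e | e | e
    · exfalso
      rw [e, zpow_zero, eq_comm, conj_eq_one_iff] at hi
      rw [hi, orderOf_one] at hd
      norm_num at hd
    · exact Or.inl (by rw [e, zpow_one])
    · refine Or.inr (eq_inv_of_mul_eq_one_left ?_)
      rw [e, ← zpow_add_one, show (2 : ℤ) + 1 = ((3 : ℕ) : ℤ) by norm_num, zpow_natCast, ← hd, pow_orderOf_eq_one]
  rcases hcase with he | he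
  · exfalso
    have hτd : Commute τ d := mul_inv_eq_iff_eq_mul.1 he
    let A : Subgroup ↥C := closure {⟨x, hxC⟩, d, τ}
    have hA : IsMulCommutative ↥A := isMulCommutative_closure (by
      rintro p (rfl | rfl | rfl) q (rfl | rfl | rfl)
      exacts [rfl, Subtype.ext hxd.eq, Subtype.ext hxτ.eq, Subtype.ext hxd.eq.symm, rfl, hτd.eq.symm,
        Subtype.ext hxτ.eq.symm, hτd.eq, rfl])
    have h7 : 7 ∣ Nat.card ↥A := by
      have h := Subgroup.orderOf_dvd_natCard A (subset_closure (by simp) : (⟨x, hxC⟩ : ↥C) ∈ A)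
      rw [← Subgroup.orderOf_coe] at h
      have e : ((⟨x, hxC⟩ : ↥C) : M) = x := rfl
      rwa [e, hx] at h
    have h3 : 3 ∣ Nat.card ↥A := hd ▸ Subgroup.orderOf_dvd_natCard A (subset_closure (by simp))
    have h2 : 2 ∣ Nat.card ↥A := hτ ▸ Subgroup.orderOf_dvd_natCard A (subset_closure (by simp))
    have hall : 42 ∣ Nat.card ↥A := by
      have := Nat.Coprime.mul_dvd_of_dvd_of_dvd (by norm_num : Nat.Coprime 6 7)
        (Nat.Coprime.mul_dvd_of_dvd_of_dvd (by norm_num : Nat.Coprime 2 3) h2 h3) h7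
      simpa using this
    have htop : A = ⊤ := Subgroup.eq_top_of_le_card A (by rw [hc]; exact Nat.le_of_dvd Nat.card_pos hall)
    apply hab
    have haC : a ∈ C := mem_centralizer_singleton_iff.2 ha.eq.symm
    have hbC : b ∈ C := mem_centralizer_singleton_iff.2 hb.eq.symm
    have h := hA.is_comm.comm (⟨⟨a, haC⟩, htop ▸ mem_top _⟩ : ↥A) ⟨⟨b, hbC⟩, htop ▸ mem_top _⟩
    exact congrArg (fun w : ↥A => ((w : ↥C) : M)) h
  · exact ⟨{ s := x, d := d, τ := τ, card := hM, s7 := hx, d3 := (Subgroup.orderOf_coe d).trans hd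
             τ2 := (Subgroup.orderOf_coe τ).trans hτ, sd := hxd, sτ := hxτ
             inv := congrArg Subtype.val he, card_cent := hc }⟩

/-- Carry the data along an isomorphism. -/
def SevenData.map {M N : Type*} [Group M] [Group N] (D : SevenData M) (e : M ≃* N) : SevenData N where
  s := e D.s
  d := e D.d
  τ := e D.τ
  card := (Nat.card_congr e.toEquiv).symm.trans D.card
  s7 := (e.orderOf_eq _).trans D.s7
  d3 := (e.orderOf_eq _).trans D.d3
  τ2 := (e.orderOf_eq _).trans D.τ2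
  sd := D.sd.map e
  sτ := D.sτ.map e
  inv := by rw [← map_inv, ← map_inv, ← map_mul, ← map_mul, D.inv]
  card_cent := by
    rw [← D.card_cent]
    exact (Nat.card_congr (e.toEquiv.subtypeEquiv fun m => by
      show m ∈ centralizer ({D.s} : Set M) ↔ e m ∈ centralizer ({e D.s} : Set N)
      rw [mem_centralizer_singleton_iff, mem_centralizer_singleton_iff, ← map_mul, ← map_mul, e.injective.eq_iff])).symm

theorem exists_sevenData : Nonempty (SevenData ↥Cfsg.M24) := by
  obtain ⟨x, h7, hc, a, b, ha, hb, hab⟩ := exists_noncomm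
  obtain ⟨D⟩ := exists_seven_of_noncomm card_m24G h7 hc ha hb hab
  exact ⟨D.map (MulEquiv.subgroupCongr Fusion.Mathieu.eq_m24).symm⟩

end Cfsg.Agent.Lib.J4Seven4
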