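import Cfsg.Agent.Lib.J4Seven4.CentH
import Cfsg.Agent.Lib.J4Seven4.M24Seven
import Cfsg.Prelude.Def_Transfer

/-!
# An element of order seven of the split extension `2^11 : M24`
-/

set_option autoImplicit false
set_option linter.unusedSectionVars false

namespace Cfsg.Agent.Lib.J4Seven4

open Cfsg Cfsg.Agent.Lib.J4Type19 Subgroup
open scoped Pointwise

attribute [local instance] m22_finite

variable {G : Type*} [Group G] [Finite G]

/-- What the normalizer of `V` gives about an element of order seven. -/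
structure LocalData (z : G) (P : Subgroup G) (s : G) (W : Subgroup G) : Prop where
  s7 : orderOf s = 7
  conjC : ∃ g : G, g * s * g⁻¹ ∈ cC z P
  cardW : Nat.card ↥W = 4
  sqW : ∀ u ∈ W, u * u = 1
  centW : ∀ u ∈ W, Commute u s
  notz : ∀ u ∈ W, ¬ IsConj z u
  card_cent : ∀ u ∈ W, u ≠ 1 → Nat.card ↥(centralizer ({s} : Set G) ⊓ centralizer ({u} : Set G)) = 56
  rot : ∃ d : G, Commute d s ∧ d ^ 3 = 1 ∧ (∀ u ∈ W, d * u * d⁻¹ ∈ W) ∧ ∀ u ∈ W, d * u * d⁻¹ = u → u = 1
  flip : ∃ t : G, Commute t s ∧ (∀ u ∈ W, t * u * t⁻¹ ∈ W) ∧ (∀ u ∈ W, t * (t * u * t⁻¹) * t⁻¹ = u) ∧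
    ∃ u ∈ W, t * u * t⁻¹ ≠ u

theorem orbit_mul_stab (M : Subgroup G) (u : G) :
    Set.ncard {v : G | ∃ m ∈ M, m * u * m⁻¹ = v} * Nat.card ↥(M ⊓ centralizer ({u} : Set G)) = Nat.card ↥M := by
  classical
  set S := (centralizer ({u} : Set G)).subgroupOf M
  let f : ↥M ⧸ S → {v : G | ∃ m ∈ M, m * u * m⁻¹ = v} :=
    Quotient.lift (fun m : ↥M => ⟨(m : G) * u * (m : G)⁻¹, m, m.2, rfl⟩) (by
      intro a b hab
      have h := mem_centralizer_singleton_iff.1 (mem_subgroupOf.1 (QuotientGroup.leftRel_apply.1 hab))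
      apply Subtype.ext
      show (a : G) * u * (a : G)⁻¹ = (b : G) * u * (b : G)⁻¹
      simp only [Subgroup.coe_mul, Subgroup.coe_inv] at h
      calc (a : G) * u * (a : G)⁻¹ = (a : G) * (u * ((a : G)⁻¹ * b)) * (b : G)⁻¹ := by group
        _ = (a : G) * ((a : G)⁻¹ * b * u) * (b : G)⁻¹ := by rw [h]
        _ = _ := by group)
  have hf : Function.Bijective f := by
    constructor
    · intro q r
      induction q using QuotientGroup.induction_on with | H a =>
      induction r using QuotientGroup.induction_on with | H b =>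
      intro h
      have h' : (a : G) * u * (a : G)⁻¹ = (b : G) * u * (b : G)⁻¹ := congrArg Subtype.val h
      refine QuotientGroup.eq.2 (mem_subgroupOf.2 (mem_centralizer_singleton_iff.2 ?_))
      simp only [Subgroup.coe_mul, Subgroup.coe_inv]
      calc (a : G)⁻¹ * b * u = (a : G)⁻¹ * ((b : G) * u * (b : G)⁻¹) * b := by group
        _ = (a : G)⁻¹ * ((a : G) * u * (a : G)⁻¹) * b := by rw [h']
        _ = u * ((a : G)⁻¹ * b) := by group
    · rintro ⟨v, m, hm, rfl⟩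
      exact ⟨QuotientGroup.mk ⟨m, hm⟩, rfl⟩
  have hS : Nat.card ↥S = Nat.card ↥(M ⊓ centralizer ({u} : Set G)) :=
    Nat.card_congr { toFun := fun x => ⟨(x : ↥M), (x : ↥M).2, mem_subgroupOf.1 x.2⟩
                     invFun := fun x => ⟨⟨x, x.2.1⟩, mem_subgroupOf.2 x.2.2⟩
                     left_inv := fun _ => rfl, right_inv := fun _ => rfl }
  rw [← Nat.card_coe_set_eq, ← Nat.card_congr (Equiv.ofBijective f hf), ← hS, mul_comm]
  exact S.card_mul_index

/-- Two elements of order seven of a subgroup whose order is not divisible by 49. -/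
theorem conj_seven {A : Subgroup G} (h49 : ¬ 49 ∣ Nat.card ↥A) {s t : G} (hs : s ∈ A) (ht : t ∈ A)
    (s7 : orderOf s = 7) (t7 : orderOf t = 7) : ∃ a ∈ A, a * t * a⁻¹ ∈ zpowers s := by
  have : Fact (Nat.Prime 7) := ⟨by norm_num⟩
  obtain ⟨m, hm⟩ := s7 ▸ Subgroup.orderOf_dvd_natCard A hs
  obtain ⟨R⟩ : Nonempty (Sylow 7 ↥A) := inferInstance
  have hR : Nat.card (R : Subgroup ↥A) = 7 := by
    rw [SmallGroups.card_sylow_eq R (k := 1) (m := m) (by rw [hm, pow_one])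
      (fun h => h49 (hm ▸ Nat.mul_dvd_mul_left 7 h)), pow_one]
  obtain ⟨S, hS, -⟩ := SmallGroups.existsUnique_sylow_of_orderOf R hR (y := (⟨s, hs⟩ : ↥A))
    (by rw [← Subgroup.orderOf_coe]; exact s7)
  obtain ⟨T, hT, -⟩ := SmallGroups.existsUnique_sylow_of_orderOf R hR (y := (⟨t, ht⟩ : ↥A))
    (by rw [← Subgroup.orderOf_coe]; exact t7)
  obtain ⟨a, ha⟩ := MulAction.exists_smul_eq ↥A T S
  refine ⟨a, a.2, ?_⟩
  have h : a * ⟨t, ht⟩ * a⁻¹ ∈ (S : Subgroup ↥A) := by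
    rw [← ha, Sylow.coe_subgroup_smul, hT]
    exact ⟨⟨t, ht⟩, mem_zpowers _, by simp⟩
  rw [hS] at h
  obtain ⟨i, hi⟩ := mem_zpowers_iff.1 h
  exact mem_zpowers_iff.2 ⟨i, congrArg Subtype.val hi⟩

variable {z : G} {P : Subgroup G}

/-- The only involution of `C` centralizing an element of order seven of `C`. -/
theorem invol_eq_z (D : HData z P) {s x : G} (hs : s ∈ cC z P) (s7 : orderOf s = 7) (hx : x ∈ cC z P)
    (hc : Commute x s) (xx : x * x = 1) (x1 : x ≠ 1) : x = z := by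
  have h := (mem_cent_iff D hs s7 (c := ⟨x, hx⟩)).1 hc
  have hsq : (⟨x, hx⟩ : ↥(cC z P)) * ⟨x, hx⟩ = 1 := Subtype.ext xx
  have h7 : D.π ⟨x, hx⟩ ^ 7 = 1 := by
    have := congrArg Subtype.val (pow_card_eq_one' (x := (⟨_, h⟩ : ↥(centralizer ({D.π ⟨s, hs⟩} : Set M22t)))))
    rwa [card_cent_seven m22_facts (π_seven D hs s7)] at this
  have h2 : D.π ⟨x, hx⟩ ^ 2 = 1 := by rw [← map_pow, pow_two, hsq, map_one]
  have h1 : D.π ⟨x, hx⟩ = 1 := by
    rwa [show 7 = 2 * 3 + 1 from rfl, pow_succ, pow_mul, h2, one_pow, one_mul] at h7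
  exact (D.ker_two h1 hsq).resolve_left x1

/-- The local data from the normalizer of `V`. -/
theorem exists_local (D : HData z P)
    (hN : normalizer (P : Set G) ≤ cH z) (h3 : ∀ x y : G, orderOf x = 3 → orderOf y = 3 → IsConj x y)
    (V : Subgroup G) (hV : Cfsg.IsElementaryAbelian 2 V) (hVc : Nat.card ↥V = 2 ^ 11)
    (hCV : centralizer (V : Set G) ≤ V) (K : Subgroup G) (hKN : K ≤ normalizer (V : Set G)) (hKV : K ⊓ V = ⊥)
    (hsup : K ⊔ V = normalizer (V : Set G)) (M : SevenData ↥K) (z' t : G) (hz'V : z' ∈ V) (htV : t ∈ V)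
    (ht1 : t ≠ 1) (hzz' : IsConj z z') (hzt : ¬ IsConj z t)
    (hO1 : Set.ncard {v : G | ∃ n ∈ normalizer (V : Set G), n * z' * n⁻¹ = v} = 1771)
    (hO2 : Set.ncard {v : G | ∃ n ∈ normalizer (V : Set G), n * t * n⁻¹ = v} = 276)
    (hCt : centralizer ({t} : Set G) ≤ normalizer (V : Set G)) :
    ∃ s W, LocalData z P s W := by
  classical
  have : Fact (Nat.Prime 7) := ⟨by norm_num⟩
  set N := normalizer (V : Set G) with hNdef
  have hnV : ∀ n ∈ N, ∀ v ∈ V, n * v * n⁻¹ ∈ V := fun n hn v hv => (mem_normalizer_iff.1 hn v).1 hv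
  have hVN : V ≤ N := le_normalizer
  have hsq : ∀ v ∈ V, v * v = 1 := fun v hv => by rw [← pow_two]; exact hV.2 v hv
  have hdisj : Disjoint K V := disjoint_iff.2 hKV
  -- products
  have hdec : ∀ n ∈ N, ∃ k ∈ K, ∃ v ∈ V, k * v = n := by
    intro n hn
    have h : n ∈ ((K ⊔ V : Subgroup G) : Set G) := by rw [hsup]; exact hn
    rw [coe_mul_of_left_le_normalizer_right K V hKN] at h
    exact h
  have hcardN : Nat.card ↥N = 244823040 * 2 ^ 11 := by
    rw [← M.card, ← hVc, ← Nat.card_prod]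
    refine (Nat.card_congr (Equiv.ofBijective
      (fun q : ↥K × ↥V => (⟨(q.1 : G) * q.2, mul_mem (hKN q.1.2) (hVN q.2.2)⟩ : ↥N)) ⟨?_, ?_⟩)).symm
    · exact fun a b e => mul_injective_of_disjoint hdisj (congrArg Subtype.val e)
    · rintro ⟨n, hn⟩
      obtain ⟨k, hk, v, hv, rfl⟩ := hdec n hn
      exact ⟨(⟨k, hk⟩, ⟨v, hv⟩), rfl⟩
  have h49 : ∀ A : Subgroup G, A ≤ N → ¬ 49 ∣ Nat.card ↥A := fun A hA h => by
    have := h.trans (card_dvd_of_le hA)
    rw [hcardN] at this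
    norm_num at this
  obtain ⟨s, hs_def⟩ : ∃ s : G, s = M.s := ⟨_, rfl⟩
  obtain ⟨d, hd_def⟩ : ∃ d : G, d = M.d := ⟨_, rfl⟩
  obtain ⟨τ, hτ_def⟩ : ∃ τ : G, τ = M.τ := ⟨_, rfl⟩
  have hsK : s ∈ K := hs_def ▸ M.s.2
  have hdK : d ∈ K := hd_def ▸ M.d.2
  have hτK : τ ∈ K := hτ_def ▸ M.τ.2
  have s7 : orderOf s = 7 := by rw [hs_def, Subgroup.orderOf_coe, M.s7]
  have d3 : orderOf d = 3 := by rw [hd_def, Subgroup.orderOf_coe, M.d3]
  have hsd : Commute d s := by rw [hs_def, hd_def]; exact congrArg Subtype.val M.sd.eq.symm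
  have hsτ : Commute τ s := by rw [hs_def, hτ_def]; exact congrArg Subtype.val M.sτ.eq.symm
  have hττ : τ * τ = 1 := by
    rw [hτ_def, ← Subgroup.coe_mul, ← pow_two, show M.τ ^ 2 = 1 from M.τ2 ▸ pow_orderOf_eq_one M.τ]; rfl
  have hτd : τ * d * τ⁻¹ = d⁻¹ := by
    rw [hτ_def, hd_def]; exact congrArg Subtype.val M.inv
  have hsN : s ∈ N := hKN hsK
  -- the fixed vectors
  set W := V ⊓ centralizer ({s} : Set G) with hWdef
  have hWV : W ≤ V := inf_le_left
  have hWs : ∀ u ∈ W, Commute u s := fun u hu => mem_centralizer_singleton_iff.1 hu.2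
  have hWn : ∀ n ∈ N, Commute n s → ∀ u ∈ W, n * u * n⁻¹ ∈ W := fun n hn hc u hu =>
    ⟨hnV n hn u (hWV hu), mem_centralizer_singleton_iff.2 ((hc.mul_left (hWs u hu)).mul_left hc.inv_left).eq⟩
  -- conjugate into `C`
  have hp3 : orderOf D.p = 3 := orderOf_eq_prime (hp := ⟨Nat.prime_three⟩) D.p3 D.pne
  obtain ⟨g, hg⟩ := isConj_iff.1 (h3 d D.p d3 hp3)
  have hintoC : ∀ y : G, Commute d y → g * y * g⁻¹ ∈ cC z P := by
    intro y hy
    have hcp : Commute (g * y * g⁻¹) D.p := hg ▸ (hy.symm.map (MulAut.conj g))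
    have hcP : g * y * g⁻¹ ∈ centralizer (P : Set G) := mem_centralizer_iff.2 fun q hq => by
      rcases (D.mem_P q).1 hq with rfl | rfl | rfl
      · simp
      · exact hcp.eq.symm
      · exact (hcp.mul_right hcp).eq.symm
    exact ⟨hN (centralizer_le_normalizer (s := (P : Set G)) hcP), hcP⟩
  have hsC : g * s * g⁻¹ ∈ cC z P := hintoC s hsd
  have hs7' : orderOf (g * s * g⁻¹) = 7 := ((MulAut.conj g).orderOf_eq s).trans s7
  -- the two orbits
  set O1 := {v : G | ∃ n ∈ N, n * z' * n⁻¹ = v}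
  set O2 := {v : G | ∃ n ∈ N, n * t * n⁻¹ = v}
  have hO2z : ∀ v ∈ O2, ¬ IsConj z v := by
    rintro v ⟨n, -, rfl⟩ h
    exact hzt (h.trans (isConj_iff.2 ⟨n⁻¹, by group⟩))
  have hz'1 : z' ≠ 1 := fun e => z_ne D.hJ (isConj_one_left.1 (e ▸ hzz'))
  have hcover : ∀ v ∈ V, v ≠ 1 → v ∈ O1 ∨ v ∈ O2 := by
    have hdisjO : Disjoint O1 O2 := Set.disjoint_left.2 fun v h1 h2 => by
      obtain ⟨n, -, rfl⟩ := h1
      exact hO2z _ h2 (hzz'.trans (isConj_iff.2 ⟨n, rfl⟩))
    have hsub : O1 ∪ O2 ⊆ (V : Set G) \ {1} := by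
      rintro v (⟨n, hn, rfl⟩ | ⟨n, hn, rfl⟩)
      · exact ⟨hnV n hn z' hz'V, fun e => hz'1 (conj_eq_one_iff.1 e)⟩
      · exact ⟨hnV n hn t htV, fun e => ht1 (conj_eq_one_iff.1 e)⟩
    have heq : O1 ∪ O2 = (V : Set G) \ {1} := by
      refine Set.eq_of_subset_of_ncard_le hsub ?_ (Set.toFinite _)
      rw [Set.ncard_union_eq hdisjO (Set.toFinite _) (Set.toFinite _), hO1, hO2,
        Set.ncard_sdiff_singleton_of_mem (one_mem V), ← Nat.card_coe_set_eq]
      show Nat.card ↥V - 1 ≤ _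
      rw [hVc]; norm_num
    intro v hv v1
    exact heq.ge ⟨hv, v1⟩
  have hW2 : ∀ u ∈ W, u ≠ 1 → u ∈ O2 := by
    intro u hu u1
    rcases hcover u (hWV hu) u1 with h | h
    · exfalso
      have heq : {v : G | ∃ n ∈ N, n * u * n⁻¹ = v} = O1 := by
        obtain ⟨m, hm, rfl⟩ := h
        ext v
        constructor
        · rintro ⟨n, hn, rfl⟩; exact ⟨n * m, mul_mem hn hm, by group⟩
        · rintro ⟨n, hn, rfl⟩; exact ⟨n * m⁻¹, mul_mem hn (inv_mem hm), by group⟩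
      have h1 := orbit_mul_stab N u
      rw [heq, hO1, hcardN] at h1
      have h7 : 7 ∣ Nat.card ↥(N ⊓ centralizer ({u} : Set G)) := s7 ▸ Subgroup.orderOf_dvd_natCard _
        (show s ∈ N ⊓ centralizer ({u} : Set G) from ⟨hsN, mem_centralizer_singleton_iff.2 (hWs u hu).eq.symm⟩)
      obtain ⟨c, hc⟩ := h7
      rw [hc] at h1
      omega
    · exact h
  have hnotz : ∀ u ∈ W, ¬ IsConj z u := fun u hu h => by
    by_cases u1 : u = 1
    · exact z_ne D.hJ (isConj_one_left.1 (u1 ▸ h))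
    · exact hO2z u (hW2 u hu u1) h
  have hCu : ∀ u ∈ W, u ≠ 1 → centralizer ({u} : Set G) ≤ N := by
    intro u hu u1 x hx
    obtain ⟨n, hn, rfl⟩ := hW2 u hu u1
    have : n⁻¹ * x * n ∈ N := hCt (mem_centralizer_singleton_iff.2 (by
      have h := mem_centralizer_singleton_iff.1 hx
      calc n⁻¹ * x * n * t = n⁻¹ * (x * (n * t * n⁻¹)) * n := by group
        _ = n⁻¹ * (n * t * n⁻¹ * x) * n := by rw [h]
        _ = _ := by group))
    have := mul_mem (mul_mem hn this) (inv_mem hn)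
    rwa [show n * (n⁻¹ * x * n) * n⁻¹ = x by group] at this
  -- transitivity on the fixed vectors
  set A := N ⊓ normalizer (zpowers s : Set G)
  have hAW : ∀ m ∈ A, ∀ u ∈ W, m * u * m⁻¹ ∈ W := by
    intro m hm u hu
    refine ⟨hnV m hm.1 u (hWV hu), mem_centralizer_singleton_iff.2 ?_⟩
    have hgs := (mem_normalizer_iff.1 hm.2 s).1 (mem_zpowers s)
    have hne : m * s * m⁻¹ ≠ 1 := fun e => by rw [conj_eq_one_iff.1 e, orderOf_one] at s7; omega
    obtain ⟨j, hj⟩ := mem_zpowers_iff.1 ((seven_zpow s7 hgs hne).ge (mem_zpowers s))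
    exact hj ▸ (((hWs u hu).map (MulAut.conj m)).zpow_right j : Commute (m * u * m⁻¹) ((m * s * m⁻¹) ^ j)).eq
  have htrans : ∀ u ∈ W, u ≠ 1 → {v : G | ∃ m ∈ A, m * u * m⁻¹ = v} = (W : Set G) \ {1} := by
    intro u hu u1
    refine Set.Subset.antisymm ?_ ?_
    · rintro v ⟨m, hm, rfl⟩
      exact ⟨hAW m hm u hu, fun e => u1 (conj_eq_one_iff.1 e)⟩
    · rintro v ⟨hv, v1⟩
      obtain ⟨a, ha, hau⟩ := hW2 u hu u1
      obtain ⟨b, hb, hbv⟩ := hW2 v hv v1
      obtain ⟨n, hn, hnuv⟩ : ∃ n ∈ N, n * u * n⁻¹ = v :=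
        ⟨b * a⁻¹, mul_mem hb (inv_mem ha), by rw [← hau, ← hbv]; group⟩
      set B := N ⊓ centralizer ({v} : Set G)
      have h1 : s ∈ B := ⟨hsN, mem_centralizer_singleton_iff.2 (hWs v hv).eq.symm⟩
      have h2 : n * s * n⁻¹ ∈ B := mem_inf.2 ⟨mul_mem (mul_mem hn hsN) (inv_mem hn), mem_centralizer_singleton_iff.2 (by
        rw [← hnuv]; exact ((hWs u hu).symm.map (MulAut.conj n)).eq)⟩
      obtain ⟨c, hc, hcs⟩ := conj_seven (h49 B inf_le_left) h1 h2 s7 (((MulAut.conj n).orderOf_eq s).trans s7)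
      have hcv : Commute c v := mem_centralizer_singleton_iff.1 hc.2
      refine ⟨c * n, ⟨mul_mem hc.1 hn, ?_⟩, ?_⟩
      · have hcs' : c * n * s * (c * n)⁻¹ ∈ zpowers s := by
          rwa [show c * n * s * (c * n)⁻¹ = c * (n * s * n⁻¹) * c⁻¹ by group]
        have hne : c * n * s * (c * n)⁻¹ ≠ 1 := fun e => by rw [conj_eq_one_iff.1 e, orderOf_one] at s7; omega
        refine mem_normalizer_iff.2 fun y => ⟨fun hy => ?_, fun hy => ?_⟩
        · obtain ⟨i, rfl⟩ := mem_zpowers_iff.1 hy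
          rw [← conj_zpow]; exact zpow_mem hcs' i
        · rw [← seven_zpow s7 hcs' hne] at hy
          obtain ⟨i, hi⟩ := mem_zpowers_iff.1 hy
          rw [conj_zpow] at hi
          exact mem_zpowers_iff.2 ⟨i, mul_left_cancel (mul_right_cancel hi)⟩
      · rw [show c * n * u * (c * n)⁻¹ = c * (n * u * n⁻¹) * c⁻¹ by group, hnuv, hcv.eq, mul_inv_cancel_right]
  -- the order of the space of fixed vectors
  have hW4 : Nat.card ↥W = 4 := by
    have := Fintype.ofFinite ↥V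
    let σ : Function.End ↥V := fun v => ⟨s * (v : G) * s⁻¹, hnV s hsN v v.2⟩
    have hσk : ∀ (k : ℕ) (v : ↥V), ((σ ^ k) v : G) = s ^ k * (v : G) * (s ^ k)⁻¹ := by
      intro k
      induction k with
      | zero => intro v; simp; rfl
      | succ k ih =>
        intro v
        rw [pow_succ' σ k]
        show s * ((σ ^ k) v : G) * s⁻¹ = _
        rw [ih v, pow_succ']; group
    have h := Equiv.Perm.card_fixedPoints_modEq (f := σ) (p := 7) (n := 1) (by
      funext v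
      apply Subtype.ext
      rw [hσk, pow_one, show s ^ 7 = 1 from s7 ▸ pow_orderOf_eq_one s]
      simp; rfl)
    have hfix : Fintype.card (Function.fixedPoints σ) = Nat.card ↥W := by
      rw [← Nat.card_eq_fintype_card]
      exact Nat.card_congr
        { toFun := fun v => ⟨v.1, v.1.2, mem_centralizer_singleton_iff.2
            (mul_inv_eq_iff_eq_mul.1 (congrArg Subtype.val v.2 : s * (v.1 : G) * s⁻¹ = v.1)).symm⟩
          invFun := fun u => ⟨⟨u, hWV u.2⟩, Subtype.ext (by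
            show s * (u : G) * s⁻¹ = u
            rw [← (hWs u u.2).eq, mul_inv_cancel_right])⟩
          left_inv := fun _ => rfl
          right_inv := fun _ => rfl }
    rw [hfix, ← Nat.card_eq_fintype_card, hVc] at h
    obtain ⟨k, hk, hWc⟩ := (Nat.dvd_prime_pow Nat.prime_two).1 (hVc ▸ card_dvd_of_le hWV)
    have hk11 : k ≠ 11 := fun e => by
      have he : W = V := Subgroup.eq_of_le_of_card_ge hWV (by rw [hWc, e, hVc])
      have hsV : s ∈ V := hCV (mem_centralizer_iff.2 fun v hv => (hWs v (he.ge hv)).eq)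
      have := Subgroup.orderOf_dvd_natCard V hsV
      rw [s7, hVc] at this
      norm_num at this
    have hdvd : 1 < Nat.card ↥W → Nat.card ↥W - 1 ∣ 244823040 * 2 ^ 11 := by
      intro h1
      have := Finite.one_lt_card_iff_nontrivial.1 h1
      obtain ⟨⟨u, hu⟩, hu1⟩ := exists_ne (1 : ↥W)
      have h2 := orbit_mul_stab A u
      rw [htrans u hu (fun e => hu1 (Subtype.ext e)), Set.ncard_sdiff_singleton_of_mem (one_mem W),
        ← Nat.card_coe_set_eq] at h2
      rw [← hcardN]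
      exact (Dvd.intro _ h2).trans (card_dvd_of_le inf_le_left)
    rw [hWc] at h hdvd ⊢
    rw [Nat.ModEq] at h
    interval_cases k <;> first | (norm_num at h; done) | (norm_num at hdvd; done) | omega | norm_num
  have hexW : ∀ {u : G}, u ∈ W → u ≠ 1 → ∀ r, r ∈ W → r ≠ 1 → r ≠ u → u * r ≠ 1 := fun {u} hu _ r hr _ hne e => hne (by
    rw [← inv_eq_of_mul_eq_one_right e, inv_eq_of_mul_eq_one_right (hsq u (hWV hu))])
  have hfpf : ∀ u ∈ W, d * u * d⁻¹ = u → u = 1 := by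
    intro u hu he
    by_contra u1
    have hdu : Commute d u := mul_inv_eq_iff_eq_mul.1 he
    have hz := invol_eq_z D hsC hs7' (hintoC u hdu) ((hWs u hu).map (MulAut.conj g))
      (by rw [show g * u * g⁻¹ * (g * u * g⁻¹) = g * (u * u) * g⁻¹ by group, hsq u (hWV hu)]; group)
      (fun e => u1 (conj_eq_one_iff.1 e))
    exact hnotz u hu (isConj_iff.2 ⟨g⁻¹, by rw [← hz]; group⟩)
  have hd3 : d ^ 3 = 1 := d3 ▸ pow_orderOf_eq_one d
  have hdW := hWn d (hKN hdK) hsd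
  refine ⟨s, W, s7, ⟨g, hsC⟩, hW4, fun u hu => hsq u (hWV hu), hWs, hnotz, ?_, ⟨d, hsd, hd3, hdW, hfpf⟩,
    ⟨τ, hsτ, hWn τ (hKN hτK) hsτ, fun u _ => by
      rw [show τ * (τ * u * τ⁻¹) * τ⁻¹ = (τ * τ) * u * (τ * τ)⁻¹ by group, hττ]; group, ?_⟩⟩
  · intro u hu u1
    set CN := N ⊓ centralizer ({s} : Set G) with hCN
    have heq : centralizer ({s} : Set G) ⊓ centralizer ({u} : Set G) = CN ⊓ centralizer ({u} : Set G) :=
      le_antisymm (fun x hx => ⟨⟨hCu u hu u1 hx.2, hx.1⟩, hx.2⟩) (fun x hx => ⟨hx.1.2, hx.2⟩)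
    have hcard : Nat.card ↥CN = 42 * 4 := by
      rw [← hW4, ← M.card_cent, ← Nat.card_prod]
      refine (Nat.card_congr (Equiv.ofBijective (fun q : ↥(centralizer ({M.s} : Set ↥K)) × ↥W =>
        (⟨((q.1 : ↥K) : G) * q.2, mul_mem (hKN (q.1 : ↥K).2) (hVN (hWV q.2.2)), mem_centralizer_singleton_iff.2 (by
          have h1 : Commute ((q.1 : ↥K) : G) s := by
            rw [hs_def]; exact congrArg Subtype.val (mem_centralizer_singleton_iff.1 q.1.2)
          exact (h1.mul_left (hWs _ q.2.2)).eq)⟩ : ↥CN)) ⟨?_, ?_⟩)).symm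
      · intro a b e
        have h := @mul_injective_of_disjoint _ _ K V hdisj ((a.1 : ↥K), ⟨a.2, hWV a.2.2⟩)
          ((b.1 : ↥K), ⟨b.2, hWV b.2.2⟩) (congrArg Subtype.val e)
        simp only [Prod.mk.injEq, Subtype.mk.injEq] at h
        exact Prod.ext (Subtype.ext h.1) (Subtype.ext h.2)
      · rintro ⟨n, hn, hns⟩
        obtain ⟨k, hk, v, hv, rfl⟩ := hdec n hn
        have hc := mem_centralizer_singleton_iff.1 hns
        have h := @mul_injective_of_disjoint _ _ K V hdisj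
          (⟨s⁻¹ * k * s, mul_mem (mul_mem (inv_mem hsK) hk) hsK⟩,
            ⟨s⁻¹ * v * s, by simpa using hnV s⁻¹ (inv_mem hsN) v hv⟩) (⟨k, hk⟩, ⟨v, hv⟩) (by
            show s⁻¹ * k * s * (s⁻¹ * v * s) = k * v
            calc s⁻¹ * k * s * (s⁻¹ * v * s) = s⁻¹ * (k * v * s) := by group
              _ = s⁻¹ * (s * (k * v)) := by rw [hc]
              _ = k * v := inv_mul_cancel_left _ _)
        simp only [Prod.mk.injEq, Subtype.mk.injEq] at h
        have hks : k * s = s * k := by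
          conv_rhs => rw [← h.1]
          group
        have hvs : v * s = s * v := by
          conv_rhs => rw [← h.2]
          group
        exact ⟨(⟨⟨k, hk⟩, mem_centralizer_singleton_iff.2 (Subtype.ext (by subst hs_def; exact hks))⟩,
          ⟨v, hv, mem_centralizer_singleton_iff.2 hvs⟩), rfl⟩
    have h1 := orbit_mul_stab CN u
    rw [hcard] at h1
    have horb : {v : G | ∃ m ∈ CN, m * u * m⁻¹ = v} = (W : Set G) \ {1} := by
      refine Set.eq_of_subset_of_ncard_le ?_ ?_ (Set.toFinite _)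
      · rintro v ⟨m, hm, rfl⟩
        exact ⟨hWn m hm.1 (mem_centralizer_singleton_iff.1 hm.2) u hu, fun e => u1 (conj_eq_one_iff.1 e)⟩
      · rw [Set.ncard_sdiff_singleton_of_mem (one_mem W), ← Nat.card_coe_set_eq]
        show Nat.card ↥W - 1 ≤ _
        rw [hW4]
        have hd' : d ∈ CN := ⟨hKN hdK, mem_centralizer_singleton_iff.2 hsd.eq⟩
        have hsub : (({u, d * u * d⁻¹, d * (d * u * d⁻¹) * d⁻¹} : Finset G) : Set G) ⊆
            {v : G | ∃ m ∈ CN, m * u * m⁻¹ = v} := by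
          intro v hv
          simp at hv
          rcases hv with rfl | rfl | rfl
          exacts [⟨1, one_mem _, by group⟩, ⟨d, hd', rfl⟩, ⟨d * d, mul_mem hd' hd', by group⟩]
        refine le_trans ?_ (Set.ncard_le_ncard hsub (Set.toFinite _))
        rw [Set.ncard_coe_finset, Finset.card_eq_three.2 ⟨u, d * u * d⁻¹, d * (d * u * d⁻¹) * d⁻¹, ?_, ?_, ?_, rfl⟩]
        · exact fun e => u1 (hfpf u hu e.symm)
        · intro e
          refine u1 (hfpf u hu ?_)
          conv_lhs => rw [e]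
          rw [show d * (d * (d * u * d⁻¹) * d⁻¹) * d⁻¹ = d ^ 3 * u * (d ^ 3)⁻¹ by simp [pow_succ, mul_assoc], hd3]
          group
        · exact fun e => u1 (conj_eq_one_iff.1 (hfpf _ (hdW u hu) e.symm))
    rw [horb, Set.ncard_sdiff_singleton_of_mem (one_mem W), ← Nat.card_coe_set_eq] at h1
    rw [heq]
    change (Nat.card ↥W - 1) * _ = _ at h1
    rw [hW4] at h1
    omega
  · by_contra hno
    push Not at hno
    have h1 : 1 < Nat.card ↥W := by omega
    have := Finite.one_lt_card_iff_nontrivial.1 h1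
    obtain ⟨⟨u, hu⟩, hu1⟩ := exists_ne (1 : ↥W)
    refine hu1 (Subtype.ext (hfpf u hu ?_))
    have hτi : τ⁻¹ = τ := inv_eq_of_mul_eq_one_right hττ
    have key : d⁻¹ * u * d = d * u * d⁻¹ := by
      calc d⁻¹ * u * d = (τ * d * τ⁻¹) * u * (τ * d * τ⁻¹)⁻¹ := by rw [hτd, inv_inv]
        _ = τ * (d * (τ⁻¹ * u * τ) * d⁻¹) * τ⁻¹ := by group
        _ = τ * (d * u * d⁻¹) * τ⁻¹ := by
          have : τ⁻¹ * u * τ = u := by
            conv_lhs => rw [← hno u hu]
            group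
          rw [this]
        _ = d * u * d⁻¹ := hno _ (hdW u hu)
    have k2 : d * (d * u * d⁻¹) * d⁻¹ = u := by rw [← key]; group
    calc d * u * d⁻¹ = d * (d * (d * u * d⁻¹) * d⁻¹) * d⁻¹ := by rw [k2]
      _ = d ^ 3 * u * (d ^ 3)⁻¹ := by simp [pow_succ, mul_assoc]
      _ = u := by rw [hd3]; group

end Cfsg.Agent.Lib.J4Seven4
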