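import Cfsg.Agent.Lib.J4Seven4.Main
import Cfsg.Prelude.Def_Spor_Mathieu

/-!
# The local structure at seven from the facts on `2^11 : M24` and the elements of order three
-/

set_option autoImplicit false

namespace Cfsg.Agent.Lib.J4Seven4

open Cfsg Cfsg.Agent.Lib.J4Type19

/-- Assembly. -/
theorem seven_of_facts {G : Type*} [Group G] [Finite G] (z : G) (P : Subgroup G)
    (hJ : Cfsg.IsOfJankoFourTypeWith z P)
    (hN : Subgroup.normalizer (P : Set G) ≤ Subgroup.centralizer ({z} : Set G))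
    (h3 : ∀ x y : G, orderOf x = 3 → orderOf y = 3 → IsConj x y)
    (hsplit : ∀ V : Subgroup G, Cfsg.IsElementaryAbelian 2 V → Nat.card ↥V = 2 ^ 11 →
      Subgroup.centralizer (V : Set G) ≤ V ∧ ∃ K : Subgroup G, K ≤ Subgroup.normalizer (V : Set G) ∧ K ⊓ V = ⊥ ∧
        K ⊔ V = Subgroup.normalizer (V : Set G) ∧ Cfsg.Spor.IsoM24 ↥K)
    (horb : ∀ V : Subgroup G, Cfsg.IsElementaryAbelian 2 V → Nat.card ↥V = 2 ^ 11 →
      ∃ z' t : G, z' ∈ V ∧ t ∈ V ∧ t ≠ 1 ∧ IsConj z z' ∧ ¬ IsConj z t ∧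
        Set.ncard {v : G | ∃ n ∈ Subgroup.normalizer (V : Set G), n * z' * n⁻¹ = v} = 1771 ∧
        Set.ncard {v : G | ∃ n ∈ Subgroup.normalizer (V : Set G), n * t * n⁻¹ = v} = 276 ∧
        Subgroup.centralizer ({t} : Set G) ≤ Subgroup.normalizer (V : Set G))
    (S : Subgroup G) (hS : Nat.card ↥S = 7) (hSz : S ≤ Subgroup.centralizer ({z} : Set G)) :
    SevenStructure S := by
  obtain ⟨D⟩ := exists_hData hJ
  have : Fact (Nat.Prime 2) := ⟨Nat.prime_two⟩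
  obtain ⟨T⟩ : Nonempty (Sylow 2 G) := inferInstance
  obtain ⟨V, ⟨-, hV, hVc⟩, -⟩ := exists_unique_elementary ⟨z, P, hJ⟩ T
  obtain ⟨hCV, K, hKN, hKV, hsup, ⟨iso⟩⟩ := hsplit V hV hVc
  obtain ⟨z', t, hz'V, htV, ht1, hzz', hzt, hO1, hO2, hCt⟩ := horb V hV hVc
  obtain ⟨M⟩ := exists_sevenData
  obtain ⟨s, W, L⟩ := exists_local D hN h3 V hV hVc hCV K hKN hKV hsup (M.map iso.symm) z' t hz'V htV ht1 hzz'
    hzt hO1 hO2 hCt
  exact seven_structure D L S hS hSz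

end Cfsg.Agent.Lib.J4Seven4
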